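import Cfsg.Agent.Lib.Char.ThreeSFour.Emb

/-!
# An embedded `3³:S₄`: the induced lattice and the class-algebra identities
-/

set_option autoImplicit false
set_option linter.unusedSectionVars false

namespace CfsgLib.Char.ThreeSFour

open scoped ComplexConjugate
open Cfsg CfsgLib.Char CfsgLib.Char.Signed

universe u

variable {G : Type u} [Group G] [Fintype G]

/-- The bilinear class-algebra functional. -/
noncomputable def qfun2 (i j : G) (v : G → ℂ) : ℂ :=
  ∑ᶠ χ : IrrCharacter G, classInner v (χ : G → ℂ) * ((χ : G → ℂ) i * (χ : G → ℂ) j) / (χ : G → ℂ) 1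

theorem qfun2_add (i j : G) (v w : G → ℂ) : qfun2 i j (v + w) = qfun2 i j v + qfun2 i j w := by
  have := Fintype.ofFinite (IrrCharacter G)
  simp only [qfun2, finsum_eq_sum_of_fintype, ← Finset.sum_add_distrib]
  exact Finset.sum_congr rfl fun χ _ => by rw [classInner_add_left]; ring

theorem qfun2_sub (i j : G) (v w : G → ℂ) : qfun2 i j (v - w) = qfun2 i j v - qfun2 i j w := by
  have := Fintype.ofFinite (IrrCharacter G)
  simp only [qfun2, finsum_eq_sum_of_fintype, ← Finset.sum_sub_distrib]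
  exact Finset.sum_congr rfl fun χ _ => by rw [classInner_sub_left]; ring

theorem qfun2_sg (i j : G) {v : G → ℂ} (hv : Sg v) : qfun2 i j v = v i * v j / v 1 := by
  classical
  have := Fintype.ofFinite (IrrCharacter G)
  obtain ⟨χ, ε, hε, rfl⟩ := hv.exists_irr
  simp only [qfun2, finsum_eq_sum_of_fintype]
  rw [Finset.sum_eq_single χ
    (fun ψ _ hψ => by rw [classInner_smul_left, classInner_irr_ne (Ne.symm hψ)]; simp)
    (fun h => absurd (Finset.mem_univ χ) h), classInner_smul_left, classInner_irr_self,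
    Pi.smul_apply, Pi.smul_apply, Pi.smul_apply, smul_eq_mul, smul_eq_mul, smul_eq_mul]
  have h1 := irr_one_ne_zero χ
  rcases hε with rfl | rfl <;> push_cast <;> field_simp

/-- The class-algebra identity for two classes. -/
theorem qfun2_indFun (H : Subgroup G) [Fintype H] (i j : G) (f : H → ℂ)
    (hloc : ∀ x : H, f x ≠ 0 → ∀ y z : G, IsConj i y → IsConj j z → y * z = (x : G) → y ∈ H) :
    qfun2 i j (indFun H f) = (Nat.card G : ℂ) / ((Nat.card H : ℂ) *
        ((Nat.card {x : G // IsConj i x} : ℂ) * (Nat.card {x : G // IsConj j x} : ℂ))) *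
      ∑ᶠ p : {y : H // IsConj i (y : G)} × {z : H // IsConj j (z : G)}, f (p.1.1 * p.2.1) := by
  classical
  have := Fintype.ofFinite (IrrCharacter G)
  have hk : ∀ i : G, (Nat.card {x : G // IsConj i x} : ℂ) ≠ 0 := by
    intro i
    have : Nonempty {x : G // IsConj i x} := ⟨⟨i, IsConj.refl i⟩⟩
    exact_mod_cast Nat.card_pos.ne'
  have hki := hk i
  have hkj := hk j
  have hG := card_ne_zero' (G := G)
  have hH := card_ne_zero' (G := H)
  set F : G → ℂ := fun x => (classConst i j x : ℂ) with hF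
  have hFc : IsClassFunction G F := by
    intro g h
    simp only [hF]
    rw [classConst_conj]
  have h1 : classInner (indFun H f) F = (Nat.card {x : G // IsConj i x} : ℂ) *
      (Nat.card {x : G // IsConj j x} : ℂ) / (Nat.card G : ℂ) * qfun2 i j (indFun H f) := by
    have hFre : ∀ x, conj (F x) = F x := fun x => map_natCast _ _
    simp only [classInner, hFre]
    simp only [hF, classConst_formula, qfun2, finsum_eq_sum_of_fintype, classInner, Finset.mul_sum,
      Finset.sum_mul, Finset.sum_div]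
    rw [Finset.sum_comm]
    refine Finset.sum_congr rfl fun χ _ => Finset.sum_congr rfl fun x _ => ?_
    ring
  have h2 : classInner (indFun H f) F = (Nat.card H : ℂ)⁻¹ *
      ∑ᶠ p : {y : H // IsConj i (y : G)} × {z : H // IsConj j (z : G)}, f (p.1.1 * p.2.1) := by
    rw [classInner_indFun H f F hFc]
    simp only [classInner, hF, map_natCast]
    congr 1
    rw [finsum_eq_sum_of_fintype, ← Finset.sum_fiberwise (Finset.univ)
      (fun p : {y : H // IsConj i (y : G)} × {z : H // IsConj j (z : G)} => p.1.1 * p.2.1)]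
    refine Finset.sum_congr rfl fun x _ => ?_
    rw [Finset.sum_congr rfl (g := fun _ => f x) fun p hp => by rw [(Finset.mem_filter.1 hp).2],
      Finset.sum_const, nsmul_eq_mul, mul_comm (f x)]
    by_cases hx : f x = 0
    · simp [hx]
    congr 1
    rw [← Fintype.card_subtype, ← Nat.card_eq_fintype_card, classConst]
    norm_cast
    refine Nat.card_congr
      { toFun := fun p => ⟨(⟨⟨p.1.1, hloc x hx _ _ p.2.1 p.2.2.1 p.2.2.2⟩, p.2.1⟩,
          ⟨⟨p.1.2, ?_⟩, p.2.2.1⟩), Subtype.ext p.2.2.2⟩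
        invFun := fun p => ⟨((p.1.1.1 : G), (p.1.2.1 : G)), p.1.1.2, p.1.2.2,
          congrArg Subtype.val p.2⟩
        left_inv := fun p => rfl
        right_inv := fun p => rfl }
    have e : p.1.2 = p.1.1⁻¹ * (x : G) := eq_inv_mul_of_mul_eq p.2.2.2
    rw [e]
    exact H.mul_mem (H.inv_mem (hloc x hx _ _ p.2.1 p.2.2.1 p.2.2.2)) x.2
  rw [h1] at h2
  field_simp at h2 ⊢
  linear_combination h2

variable {H : Subgroup G} {φ : H ≃* M}

/-- A function of the model on `H`. -/
noncomputable def pullM (φ : H ≃* M) (f : M → ℂ) : H → ℂ := fun x => f (φ x)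

theorem classInner_pullM [Fintype H] (φ : H ≃* M) (f g : M → ℂ) :
    classInner (pullM φ f) (pullM φ g) = classInner f g := by
  simp only [classInner, pullM, Nat.card_congr φ.toEquiv]
  congr 1
  exact Fintype.sum_equiv φ.toEquiv _ _ fun x => rfl

theorem pullM_conj (φ : H ≃* M) (f : Fin 14 → ℤ × ℤ) (x k : H) :
    pullM φ (clFun f) (k * x * k⁻¹) = pullM φ (clFun f) x := by
  simp [pullM, clFun, clsOf_conj]

theorem Emb.indFun_supp (e : Emb H φ) (f : Fin 14 → ℤ × ℤ)
    (hs : ∀ c : Fin 14, c.val ≤ 4 → f c = (0, 0)) {x : H} (hx : 4 < (clsOf (φ x)).val) :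
    indFun H (pullM φ (clFun f)) x = pullM φ (clFun f) x := by
  classical
  have h1 : ∀ y : G, y ∉ H → extendByZero H (pullM φ (clFun f)) (y⁻¹ * x * y) = 0 := by
    intro y hy
    by_cases hm : y⁻¹ * (x : G) * y ∈ H
    · refine absurd ?_ hy
      have := e.mem_of_conj_supp (g := y⁻¹) (x' := ⟨_, hm⟩) hx (by simp)
      simpa using H.inv_mem this
    · exact extendByZero_not_mem H _ hm
  have h2 : ∀ y : G, y ∈ H → extendByZero H (pullM φ (clFun f)) (y⁻¹ * x * y) =
      pullM φ (clFun f) x := by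
    intro y hy
    rw [extendByZero_mem H _ (H.mul_mem (H.mul_mem (H.inv_mem hy) x.2) hy)]
    rw [show (⟨y⁻¹ * x * y, _⟩ : H) = (⟨y, hy⟩ : H)⁻¹ * x * (⟨y, hy⟩ : H)⁻¹⁻¹ from
      Subtype.ext (by simp), pullM_conj]
  rw [indFun, Finset.sum_congr rfl (g := fun y => if y ∈ H then pullM φ (clFun f) x else 0)
    fun y _ => by
      split_ifs with hy
      · exact h2 y hy
      · exact h1 y hy]
  rw [← Finset.sum_filter, Finset.sum_const, nsmul_eq_mul, ← Fintype.card_subtype,
    ← Nat.card_eq_fintype_card, ← mul_assoc, inv_mul_cancel₀ (by exact_mod_cast Nat.card_pos.ne'),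
    one_mul]

theorem sq_cls (x : M) (h : x * x = 1) : (clsOf x).val ≤ 4 := by
  rcases forall_m (P := fun x => x * x = 1 → x = 1 ∨ clsOf x = clA ∨ clsOf x = clB) invol_cls x h with
    rfl | h' | h'
  · rw [cls_one]; decide
  · rw [h']; decide
  · rw [h']; decide

theorem Emb.indFun_sq (_e : Emb H φ) (f : Fin 14 → ℤ × ℤ)
    (hs : ∀ c : Fin 14, c.val ≤ 4 → f c = (0, 0)) {g : G} (hg : g * g = 1) :
    indFun H (pullM φ (clFun f)) g = 0 := by
  rw [indFun, Finset.sum_eq_zero, mul_zero]
  intro y _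
  by_cases hm : y⁻¹ * g * y ∈ H
  · rw [extendByZero_mem H _ hm]
    have e1 : (⟨_, hm⟩ : H) * ⟨_, hm⟩ = 1 := Subtype.ext (by
      show y⁻¹ * g * y * (y⁻¹ * g * y) = 1
      rw [show y⁻¹ * g * y * (y⁻¹ * g * y) = y⁻¹ * (g * g) * y by group, hg]
      group)
    have := sq_cls _ ((map_mul φ _ _).symm.trans ((congrArg φ e1).trans (map_one φ)))
    exact (congrArg ev (hs _ this)).trans (map_zero ev)
  · exact extendByZero_not_mem H _ hm

/-- The trivial character and the induced lattice. -/
noncomputable def Fv (φ : H ≃* M) (i : Fin 10) : G → ℂ :=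
  if i = 0 then fun _ => 1 else indFun H (pullM φ (vfun i))

theorem Fv_zero (φ : H ≃* M) : Fv φ 0 = fun _ => 1 := if_pos rfl

theorem Fv_ne (φ : H ≃* M) {i : Fin 10} (h : i ≠ 0) : Fv φ i = indFun H (pullM φ (vfun i)) := if_neg h

theorem Fv_gen (φ : H ≃* M) (i : Fin 10) : Gen (Fv φ i) := by
  by_cases h : i = 0
  · subst h
    rw [Fv_zero]
    exact (Sg.of_irr ⟨_, isIrrCharacter_one⟩).gen
  · rw [Fv_ne φ h]
    exact isGeneralizedCharacter_indFun H (isGeneralizedCharacter_comp (vfun_gen i) φ.toMonoidHom)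

theorem Emb.Fv_sq (e : Emb H φ) {i : Fin 10} (h : i ≠ 0) {g : G} (hg : g * g = 1) : Fv φ i g = 0 := by
  rw [Fv_ne φ h]
  exact e.indFun_sq _ (vval_supp i h) hg

theorem Emb.iq_Fv (e : Emb H φ) (i j : Fin 10) : iq (Fv φ i) (Fv φ j) = gramFn i.val j.val := by
  have := Fintype.ofFinite H
  refine iq_eq _ ?_
  by_cases hi : i = 0
  · subst hi
    by_cases hj : j = 0
    · subst hj
      rw [Fv_zero, show gramFn (0 : Fin 10).val (0 : Fin 10).val = 1 from rfl, Int.cast_one]
      exact classInner_irr_self ⟨_, isIrrCharacter_one⟩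
    · rw [Fv_zero, Fv_ne φ hj, classInner_indFun_right H _ _ (fun _ _ => rfl), ← classInner_vfun,
        ← classInner_pullM φ, vfun_zero]
      rfl
  · rw [Fv_ne φ hi, classInner_indFun H _ _ (isClassFunction_of_isGeneralized (Fv_gen φ j)),
      ← classInner_vfun, ← classInner_pullM φ]
    simp only [classInner]
    congr 1
    refine Finset.sum_congr rfl fun x _ => ?_
    by_cases hx : (clsOf (φ x)).val ≤ 4
    · simp [pullM, vfun, clFun, vval_supp i hi _ hx, ← Prod.zero_eq_mk]
    · congr 2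
      by_cases hj : j = 0
      · subst hj
        rw [Fv_zero, vfun_zero]
        rfl
      · rw [Fv_ne φ hj]
        exact e.indFun_supp _ (vval_supp j hj) (Nat.lt_of_not_le hx)

/-- One of the six induced functions. -/
noncomputable def Sv (φ : H ≃* M) (m : Fin 6) : G → ℂ := indFun H (pullM φ (sfun m))

theorem Sv_eq (φ : H ≃* M) (m : Fin 6) : Sv φ m = ∑ i, (comb6 m i : ℂ) • Fv φ i := by
  have : pullM φ (sfun m) = ∑ i, (comb6 m i : ℂ) • pullM φ (vfun i) := by
    funext x
    simp [pullM, sfun_eq]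
  rw [Sv, this, indFun_sum]
  refine Finset.sum_congr rfl fun i _ => ?_
  rw [indFun_smul]
  by_cases h : i = 0
  · subst h
    simp [comb6_zero]
  · rw [Fv_ne φ h]

theorem sval_supp (m : Fin 6) (c : Fin 14) (hc : c.val ≤ 4) : sval m c = (0, 0) := by
  rw [← Prod.zero_eq_mk, sval]
  refine Finset.sum_eq_zero fun i _ => ?_
  by_cases h : i = 0
  · subst h
    simp [comb6_zero, psmul]
  · simp [vval_supp i h c hc, psmul]

/-- The summed class functions over pairs of involutions. -/
theorem sum_pairs (a b : M) (m : Fin 6) :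
    ∑ y ∈ Finset.univ.filter (fun y : M => clsOf y = clsOf a),
      ∑ z ∈ Finset.univ.filter (fun z : M => clsOf z = clsOf b), ev (sval m (clsOf (y * z))) =
    ev (pairSum (clsOf a) (clsOf b) m) := by
  classical
  have key : ∀ y : M, clsOf y = clsOf a →
      ∑ z ∈ Finset.univ.filter (fun z : M => clsOf z = clsOf b), ev (sval m (clsOf (y * z))) =
        ev (∑ z ∈ Finset.univ.filter (fun z : M => clsOf z = clsOf b),
          sval m (clsOf (repM (clsOf a) * z))) := by
    intro y hy
    obtain ⟨w, hw⟩ := exists_conj_rep y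
    rw [hy] at hw
    rw [map_sum]
    refine Finset.sum_bij (fun z _ => w⁻¹ * z * w) (fun z hz => ?_) (fun a _ b _ h => by simpa using h)
      (fun z hz => ⟨w * z * w⁻¹, ?_, by group⟩) fun z _ => ?_
    · simp only [Finset.mem_filter, Finset.mem_univ, true_and] at hz ⊢
      rw [← hz]
      simpa using clsOf_conj z w⁻¹
    · simp only [Finset.mem_filter, Finset.mem_univ, true_and] at hz ⊢
      rw [clsOf_conj, hz]
    · congr 2
      have := clsOf_conj (repM (clsOf a) * (w⁻¹ * z * w)) w
      rw [show w * (repM (clsOf a) * (w⁻¹ * z * w)) * w⁻¹ = w * repM (clsOf a) * w⁻¹ * z by group,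
        hw] at this
      exact this
  rw [Finset.sum_congr rfl fun y hy => key y (Finset.mem_filter.1 hy).2, Finset.sum_const,
    nsmul_eq_mul, pairSum, ev_psmul, ← cls_card, Int.cast_natCast]

/-- The normalizing constant. -/
noncomputable def kConst (H : Subgroup G) (i j : G) : ℂ :=
  972 * ((Nat.card G : ℂ) / ((Nat.card H : ℂ) *
    ((Nat.card {x : G // IsConj i x} : ℂ) * (Nat.card {x : G // IsConj j x} : ℂ))))

theorem kConst_ne (H : Subgroup G) (i j : G) : kConst H i j ≠ 0 := by
  have hk : ∀ i : G, (Nat.card {x : G // IsConj i x} : ℂ) ≠ 0 := by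
    intro i
    have : Nonempty {x : G // IsConj i x} := ⟨⟨i, IsConj.refl i⟩⟩
    exact_mod_cast Nat.card_pos.ne'
  exact mul_ne_zero (by norm_num) (div_ne_zero (card_ne_zero' (G := G))
    (mul_ne_zero (by exact_mod_cast Nat.card_pos.ne') (mul_ne_zero (hk i) (hk j))))

theorem kConst_sq (H : Subgroup G) (i j : G) :
    kConst H i j ^ 2 = kConst H i i * kConst H j j := by
  simp only [kConst, div_eq_mul_inv, mul_inv]
  ring

theorem Emb.isConj_el_iff (e : Emb H φ) (y : H) :
    (IsConj (e.el invA) (y : G) ↔ clsOf (φ y) = clA) ∧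
      (IsConj (e.el invB) (y : G) ↔ clsOf (φ y) = clB) := by
  obtain ⟨hA2, hB2, hA, hB, -⟩ := inv_spec
  have hfwd : ∀ i : M, clsOf (φ y) = clsOf i → IsConj (e.el i) (y : G) := by
    intro i h
    obtain ⟨w, hw⟩ := clsOf_eq_imp h.symm
    refine isConj_iff.2 ⟨((φ.symm w : H) : G), ?_⟩
    have : φ.symm w * φ.symm i * (φ.symm w)⁻¹ = y := φ.injective (by simp [hw])
    exact congrArg Subtype.val this
  have hbwd : ∀ i : M, i * i = 1 → i ≠ 1 → IsConj (e.el i) (y : G) →
      clsOf (φ y) = clA ∨ clsOf (φ y) = clB := by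
    intro i hi hi1 hc
    obtain ⟨g, hg⟩ := isConj_iff.1 hc
    have hy2 : φ y * φ y = 1 := by
      rw [← map_mul, map_eq_one_iff φ φ.injective]
      refine Subtype.ext ?_
      rw [Subgroup.coe_mul, ← hg, show g * e.el i * g⁻¹ * (g * e.el i * g⁻¹) = g * (e.el i * e.el i) * g⁻¹
        by group, ← e.el_mul, hi]
      simp [Emb.el]
    rcases forall_m (P := fun x => x * x = 1 → x = 1 ∨ clsOf x = clA ∨ clsOf x = clB) invol_cls _ hy2
      with h | h
    · exfalso
      rw [map_eq_one_iff φ φ.injective] at h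
      rw [h, Subgroup.coe_one, conj_eq_one_iff] at hg
      exact hi1 (φ.symm.injective (Subtype.ext (by simpa [Emb.el] using hg)))
    · exact h
  have hA1 : invA ≠ 1 := fun h => by rw [h, cls_one] at hA; exact absurd hA (by decide)
  have hB1 : invB ≠ 1 := fun h => by rw [h, cls_one] at hB; exact absurd hB (by decide)
  refine ⟨⟨fun h => ?_, fun h => hfwd invA (h.trans hA.symm)⟩,
    ⟨fun h => ?_, fun h => hfwd invB (h.trans hB.symm)⟩⟩
  · rcases hbwd invA hA2 hA1 h with h' | h'
    · exact h'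
    · exact absurd (h.trans (hfwd invB (h'.trans hB.symm)).symm) e.not_conj
  · rcases hbwd invB hB2 hB1 h with h' | h'
    · exact absurd ((hfwd invA (h'.trans hA.symm)).trans h.symm) e.not_conj
    · exact h'

theorem Emb.qfun2_Sv (e : Emb H φ) (a b : M) (ha : a = invA ∨ a = invB) (hb : b = invA ∨ b = invB)
    (m : Fin 6) (r : ℤ) (hr : pairSum (clsOf a) (clsOf b) m = (972 * r, 0)) :
    qfun2 (e.el a) (e.el b) (Sv φ m) = kConst H (e.el a) (e.el b) * (r : ℂ) := by
  classical
  have := Fintype.ofFinite H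
  obtain ⟨hA2, hB2, hA, hB, -⟩ := inv_spec
  have hsq : ∀ a : M, a = invA ∨ a = invB → ∀ y : G, IsConj (e.el a) y → y * y = 1 := by
    intro a ha y hy
    obtain ⟨g, rfl⟩ := isConj_iff.1 hy
    have : a * a = 1 := by rcases ha with rfl | rfl <;> assumption
    rw [show g * e.el a * g⁻¹ * (g * e.el a * g⁻¹) = g * (e.el a * e.el a) * g⁻¹ by group, ← e.el_mul,
      this]
    simp [Emb.el]
  rw [Sv, qfun2_indFun H _ _ _ (fun x hx y z hy hz hyz => ?_)]
  · have hiff : ∀ a : M, a = invA ∨ a = invB → ∀ y : H,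
        (IsConj (e.el a) (y : G) ↔ clsOf (φ y) = clsOf a) := by
      intro a ha y
      rcases ha with rfl | rfl
      · rw [hA]; exact (e.isConj_el_iff y).1
      · rw [hB]; exact (e.isConj_el_iff y).2
    have hsum : ∀ a : M, a = invA ∨ a = invB → ∀ g : M → ℂ,
        ∑ y : {y : H // IsConj (e.el a) (y : G)}, g (φ y.1) =
          ∑ x ∈ Finset.univ.filter (fun x : M => clsOf x = clsOf a), g x := by
      intro a ha g
      refine Finset.sum_bij (fun y _ => φ y.1)
        (fun y _ => Finset.mem_filter.2 ⟨Finset.mem_univ _, (hiff a ha y.1).1 y.2⟩)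
        (fun p _ q _ h => Subtype.ext (φ.injective h)) (fun x hx => ?_) fun _ _ => rfl
      refine ⟨⟨φ.symm x, (hiff a ha _).2 ?_⟩, Finset.mem_univ _, φ.apply_symm_apply x⟩
      rw [φ.apply_symm_apply]
      exact (Finset.mem_filter.1 hx).2
    have hev : ev (pairSum (clsOf a) (clsOf b) m) = 972 * (r : ℂ) := by
      rw [hr, ev_int]; push_cast; rfl
    rw [← sum_pairs] at hev
    rw [finsum_eq_sum_of_fintype, Fintype.sum_prod_type, kConst]
    simp only [pullM, map_mul, sfun, clFun]
    rw [hsum a ha fun p => ∑ y : {y : H // IsConj (e.el b) (y : G)}, ev (sval m (clsOf (p * φ y.1))),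
      Finset.sum_congr rfl fun p _ => hsum b hb fun q => ev (sval m (clsOf (p * q))), hev]
    ring
  · refine e.mem_of_inverted (x := x) (Nat.lt_of_not_le fun h => hx ?_) ?_
    · simp only [pullM, sfun, clFun, sval_supp m _ h]
      exact map_zero ev
    · have hy2 := hsq a ha y hy
      have hz2 := hsq b hb z hz
      rw [← hyz, mul_inv_rev, inv_eq_of_mul_eq_one_right hy2, inv_eq_of_mul_eq_one_right hz2,
        show y * (y * z) * y = (y * y) * z * y by group, hy2, one_mul]

end CfsgLib.Char.ThreeSFour
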