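import Mathlib.Analysis.Complex.Polynomial.Basic
import Mathlib.Tactic.LinearCombination
import Mathlib.Tactic.FieldSimp

/-!
# The group `3³:S₄` with a strongly closed 3-core: solving the class-algebra equations
-/

set_option autoImplicit false

namespace CfsgLib.Char.ThreeSFour

/-- The bilinear form attached to `u + v - (u + v)`. -/
noncomputable def bl2 (x1 x2 y1 y2 d1 d2 : ℂ) : ℂ :=
  x1 * y1 / d1 + x2 * y2 / d2 - (x1 + x2) * (y1 + y2) / (d1 + d2)

/-- The bilinear form attached to `u + v + w - (u + v + w)`. -/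
noncomputable def bl3 (x1 x2 x3 y1 y2 y3 d1 d2 d3 : ℂ) : ℂ :=
  x1 * y1 / d1 + x2 * y2 / d2 + x3 * y3 / d3 - (x1 + x2 + x3) * (y1 + y2 + y3) / (d1 + d2 + d3)

theorem bl3_shift {x1 x2 x3 y1 y2 y3 d1 d2 d3 : ℂ} (l m : ℂ) (h1 : d1 ≠ 0) (h2 : d2 ≠ 0)
    (h3 : d3 ≠ 0) (hs : d1 + d2 + d3 ≠ 0) :
    bl3 (x1 - l * d1) (x2 - l * d2) (x3 - l * d3) (y1 - m * d1) (y2 - m * d2) (y3 - m * d3)
      d1 d2 d3 = bl3 x1 x2 x3 y1 y2 y3 d1 d2 d3 := by
  simp only [bl3]
  field_simp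
  ring

theorem bl2_eq {x1 x2 y1 y2 d1 d2 : ℂ} (h1 : d1 ≠ 0) (h2 : d2 ≠ 0) (hs : d1 + d2 ≠ 0) :
    bl2 x1 x2 y1 y2 d1 d2 =
      (x1 * d2 - x2 * d1) * (y1 * d2 - y2 * d1) / (d1 * d2 * (d1 + d2)) := by
  simp only [bl2]
  field_simp
  ring

theorem gram_det {d r Y a α η β : ℂ} (hd : d ≠ 0) (hr : r ≠ 0) (hY : Y ≠ 0) (hh : d + r + Y ≠ 0) :
    bl3 (-α) 0 a (-α) 0 a d r Y * bl3 (-β) (-η) 0 (-β) (-η) 0 d r Y -
      bl3 (-α) 0 a (-β) (-η) 0 d r Y ^ 2 =
    (α * η * Y + a * η * d - a * β * r) ^ 2 / (d * r * Y * (d + r + Y)) := by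
  simp only [bl3]
  field_simp
  ring

/-- The equations at one linear constituent. -/
theorem side {d e p r a η α β : ℂ} (hd : d ≠ 0) (he : e ≠ 0) (hp : p ≠ 0) (hr : r ≠ 0)
    (hW : p + r ≠ 0) (hY : e + (p + r) ≠ 0) (hh : d + r + (e + (p + r)) ≠ 0)
    (hk : d + -r + (e + (p + r)) ≠ 0)
    (h3 : a ^ 2 * (p + r) = 2 * (e * (e + (p + r)))) (h4 : η ^ 2 * (p + r) = 2 * (p * r))
    (q1 : bl3 (-α) 0 a (-α) 0 a d r (e + (p + r)) = 1)
    (q2 : bl3 (-α) 0 a (-β) (-η) 0 d r (e + (p + r)) = 1)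
    (q3 : bl3 (-β) (-η) 0 (-β) (-η) 0 d r (e + (p + r)) = 3)
    (k1 : bl3 (-α) 0 a (-α) 0 a d (-r) (e + (p + r)) = 0)
    (k2 : bl3 (-α) 0 a (-β) η 0 d (-r) (e + (p + r)) = 2)
    (k3 : bl3 (-β) η 0 (-β) η 0 d (-r) (e + (p + r)) = 2) :
    2 * r = d + e + p ∧ (d * (p + r) - p * (e + (p + r)) - e * r) ^ 2 =
      4 * (e * p * r * (e + (p + r))) := by
  set Y := e + (p + r) with hYd
  clear_value Y
  have g7 := gram_det (a := a) (α := α) (η := η) (β := β) hd hr hY hh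
  rw [q1, q2, q3] at g7
  have g8 := gram_det (a := a) (α := α) (η := -η) (β := β) hd (neg_ne_zero.2 hr) hY hk
  rw [neg_neg, k1, k2, k3] at g8
  set D := α * η * Y + a * η * d - a * β * r with hD
  have hD' : α * -η * Y + a * -η * d - a * β * -r = -D := by rw [hD]; ring
  rw [hD', eq_div_iff (by simp [hd, hr, hY, hk])] at g8
  rw [eq_div_iff (by simp [hd, hr, hY, hh])] at g7
  have hk2 : d + r + Y = 2 * (d + -r + Y) := by
    have : 2 * (d * r * Y) * (d + r + Y - 2 * (d + -r + Y)) = 0 := by linear_combination g7 - g8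
    exact sub_eq_zero.1 ((mul_eq_zero.1 this).resolve_left (by simp [hd, hr, hY]))
  have hk3 : d + -r + Y = 2 * r := by linear_combination -hk2
  refine ⟨by linear_combination -hk3 + hYd, ?_⟩
  have eh : d + r + Y = 4 * r := by linear_combination hk2 + 2 * hk3
  obtain ⟨u, hu⟩ : ∃ u, u = a - α := ⟨_, rfl⟩
  have n4 : (4 : ℂ) * r ≠ 0 := mul_ne_zero (by norm_num) hr
  have n2 : (2 : ℂ) * r ≠ 0 := mul_ne_zero (by norm_num) hr
  simp only [bl3, eh, hk3] at q1 q2 k1 k2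
  have eu : u ^ 2 = 4 * r := by
    rw [hu]
    field_simp at q1 k1
    have : d * r * Y * ((a - α) ^ 2 - 4 * r) = 0 := by linear_combination r * q1 - 2 * r * k1
    exact sub_eq_zero.1 ((mul_eq_zero.1 this).resolve_left (by simp [hd, hr, hY]))
  have u0 : u ≠ 0 := fun h => n4 (by rw [← eu, h]; ring)
  have eb : β = u + 3 * η := by
    rw [hu]
    field_simp at q2 k2
    have : d * r * Y * ((a - α) * (3 * η - β + (a - α))) = 0 := by
      linear_combination r * q2 - 2 * r * k2 + d * r * Y * (hu ▸ eu : (a - α) ^ 2 = 4 * r)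
    have h := (mul_eq_zero.1 ((mul_eq_zero.1 this).resolve_left (by simp [hd, hr, hY]))).resolve_left
      (hu ▸ u0)
    linear_combination -h
  have eD : D = -(u * (η * Y + a * r)) := by
    rw [hD, eb, hu]
    linear_combination (a * η) * eh
  rw [eD, eh] at g7
  have S2 : 4 * r * ((η * Y + a * r) ^ 2 - 2 * (d * r * Y)) = 0 := by
    linear_combination -g7 - (η * Y + a * r) ^ 2 * eu
  have S := sub_eq_zero.1 ((mul_eq_zero.1 S2).resolve_left n4)
  have ah : a * η * (p + r) = d * (p + r) - p * Y - e * r := by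
    have : 2 * (r * Y) * (a * η * (p + r) - (d * (p + r) - p * Y - e * r)) = 0 := by
      linear_combination (p + r) * S - r ^ 2 * h3 - Y ^ 2 * h4
    exact sub_eq_zero.1 ((mul_eq_zero.1 this).resolve_left (by simp [hr, hY]))
  rw [← ah]
  linear_combination (η ^ 2 * (p + r)) * h3 + (2 * (e * Y)) * h4

/-- The degree of the constituent at the character of degree two. -/
theorem final {e p r s : ℂ} (he : e ≠ 0) (hr : r ≠ 0) (hW : p + r ≠ 0)
    (h1 : 2 * r = 1 + e + p) (h2 : 2 * p = s + e + r)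
    (e1 : (1 * (p + r) - p * (e + (p + r)) - e * r) ^ 2 = 4 * (e * p * r * (e + (p + r))))
    (e2 : (s * (r + p) - r * (e + (r + p)) - e * p) ^ 2 = 4 * (e * r * p * (e + (r + p)))) :
    e = 2 := by
  obtain rfl : e = 2 * r - 1 - p := by linear_combination -h1
  obtain rfl : s = 3 * p - 3 * r + 1 := by linear_combination -h2
  have h : 16 * (p + r) ^ 2 * ((p - r) * (p - 2 * r + 1)) = 0 := by linear_combination e2 - e1
  have hp : p - r = 0 := (mul_eq_zero.1 ((mul_eq_zero.1 h).resolve_left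
    (mul_ne_zero (by norm_num) (pow_ne_zero _ hW)))).resolve_right
    fun h => he (by linear_combination -h)
  obtain rfl : p = r := sub_eq_zero.1 hp
  have h' : 4 * p ^ 2 * ((2 * p - 1 - p) * (p - 3)) = 0 := by linear_combination e1
  have := (mul_eq_zero.1 ((mul_eq_zero.1 h').resolve_left
    (mul_ne_zero (by norm_num) (pow_ne_zero _ hr)))).resolve_left he
  linear_combination this

theorem bl2_smul {x1 x2 y1 y2 d1 d2 ρ σ : ℂ} :
    bl2 (x1 / ρ) (x2 / ρ) (y1 / σ) (y2 / σ) d1 d2 = bl2 x1 x2 y1 y2 d1 d2 / (ρ * σ) := by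
  simp only [bl2]
  ring

theorem bl3_smul {x1 x2 x3 y1 y2 y3 d1 d2 d3 ρ σ : ℂ} :
    bl3 (x1 / ρ) (x2 / ρ) (x3 / ρ) (y1 / σ) (y2 / σ) (y3 / σ) d1 d2 d3 =
      bl3 x1 x2 x3 y1 y2 y3 d1 d2 d3 / (ρ * σ) := by
  simp only [bl3]
  ring

theorem bl3_neg_left {x1 x2 x3 y1 y2 y3 d1 d2 d3 : ℂ} :
    bl3 (-x1) (-x2) (-x3) y1 y2 y3 d1 d2 d3 = -bl3 x1 x2 x3 y1 y2 y3 d1 d2 d3 := by
  simp only [bl3]
  ring

theorem bl3_neg_right {x1 x2 x3 y1 y2 y3 d1 d2 d3 : ℂ} :
    bl3 x1 x2 x3 (-y1) (-y2) (-y3) d1 d2 d3 = -bl3 x1 x2 x3 y1 y2 y3 d1 d2 d3 := by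
  simp only [bl3]
  ring

/-- The values and degrees of the four basic constituents. -/
structure Quad where
  e : ℂ
  p : ℂ
  r : ℂ
  s : ℂ

/-- The six forms. -/
noncomputable def forms (d x y : Quad) : Fin 6 → ℂ
  | 0 => bl2 x.e (x.p + x.r) y.e (y.p + y.r) d.e (d.p + d.r)
  | 1 => bl2 x.p x.r y.p y.r d.p d.r
  | 2 => bl3 x.s x.r x.e y.s y.r y.e d.s d.r d.e
  | 3 => bl3 x.s x.p (x.e + (x.p + x.r)) y.s y.p (y.e + (y.p + y.r)) d.s d.p (d.e + (d.p + d.r))
  | 4 => bl3 1 x.r (x.e + (x.p + x.r)) 1 y.r (y.e + (y.p + y.r)) 1 d.r (d.e + (d.p + d.r))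
  | 5 => bl3 1 (-x.r) (x.e + (x.p + x.r)) 1 (-y.r) (y.e + (y.p + y.r)) 1 (-d.r)
      (d.e + (d.p + d.r))

/-- The right-hand sides at the pairs `aa`, `ab`, `bb`. -/
def rhs : Fin 3 → Fin 6 → ℤ
  | 0 => ![2, 0, 2, 1, 1, 0]
  | 1 => ![0, 0, -2, -1, 1, 2]
  | 2 => ![0, 2, 4, 3, 3, 2]

/-- The non-degeneracy conditions. -/
structure Nondeg (d : Quad) : Prop where
  e : d.e ≠ 0
  p : d.p ≠ 0
  r : d.r ≠ 0
  s : d.s ≠ 0
  W : d.p + d.r ≠ 0
  Y : d.e + (d.p + d.r) ≠ 0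
  f : d.s + d.r + d.e ≠ 0
  g : d.s + d.p + (d.e + (d.p + d.r)) ≠ 0
  h : 1 + d.r + (d.e + (d.p + d.r)) ≠ 0
  k : 1 + -d.r + (d.e + (d.p + d.r)) ≠ 0

theorem mirror_eq {x1 x2 x3 x4 y1 y2 y3 y4 s p r e : ℂ} :
    bl3 x1 (-x2) (x4 + (x2 + x3)) y1 (-y2) (y4 + (y2 + y3)) s (-p) (e + (p + r)) =
      bl3 x1 x3 x4 y1 y3 y4 s r e - bl2 x2 x3 y2 y3 p r -
        bl2 x4 (x2 + x3) y4 (y2 + y3) e (p + r) := by
  simp only [bl2, bl3]
  rw [show x1 + -x2 + (x4 + (x2 + x3)) = x1 + x3 + x4 by ring,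
    show y1 + -y2 + (y4 + (y2 + y3)) = y1 + y3 + y4 by ring,
    show s + -p + (e + (p + r)) = s + r + e by ring]
  ring

/-- The class-algebra equations force degree two. -/
theorem degree_two {d x y : Quad} (hd : Nondeg d) {ca cab cb : ℂ} (hca : ca ≠ 0) (hcb : cb ≠ 0)
    (hc : cab ^ 2 = ca * cb) (haa : ∀ i, forms d x x i = ca * rhs 0 i)
    (hab : ∀ i, forms d x y i = cab * rhs 1 i) (hbb : ∀ i, forms d y y i = cb * rhs 2 i) :
    d.e = 2 := by
  obtain ⟨ρ, hρ⟩ := IsAlgClosed.exists_pow_nat_eq ca (show 0 < 2 by norm_num)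
  have hρ0 : ρ ≠ 0 := fun h => hca (by rw [← hρ, h]; ring)
  have hab0 : cab ≠ 0 := fun h => mul_ne_zero hca hcb (by rw [← hc, h]; ring)
  set σ := cab / ρ with hσd
  have hσ : σ ^ 2 = cb := by
    rw [hσd, div_pow, hc, hρ, mul_div_cancel_left₀ _ hca]
  have hρσ : ρ * σ = cab := by rw [hσd]; field_simp
  have hσ0 : σ ≠ 0 := div_ne_zero hab0 hρ0
  obtain ⟨de, dp, dr, ds⟩ := d
  obtain ⟨xe, xp, xr, xs⟩ := x
  obtain ⟨ye, yp, yr, ys⟩ := y
  obtain ⟨he, hp, hr, hs, hW, hY, hf, hg, hh, hk⟩ := hd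
  dsimp only at *
  have a0 := haa 0
  simp [forms, rhs] at a0
  have a1 := haa 1
  simp [forms, rhs] at a1
  have a2 := haa 2
  simp [forms, rhs] at a2
  have a3 := haa 3
  simp [forms, rhs] at a3
  have a4 := haa 4
  simp [forms, rhs] at a4
  have a5 := haa 5
  simp [forms, rhs] at a5
  have m0 := hab 0
  simp [forms, rhs] at m0
  have m1 := hab 1
  simp [forms, rhs] at m1
  have m2 := hab 2
  simp [forms, rhs] at m2
  have m3 := hab 3
  simp [forms, rhs] at m3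
  have m4 := hab 4
  simp [forms, rhs] at m4
  have m5 := hab 5
  simp [forms, rhs] at m5
  have b0 := hbb 0
  simp [forms, rhs] at b0
  have b1 := hbb 1
  simp [forms, rhs] at b1
  have b2 := hbb 2
  simp [forms, rhs] at b2
  have b3 := hbb 3
  simp [forms, rhs] at b3
  have b4 := hbb 4
  simp [forms, rhs] at b4
  have b5 := hbb 5
  simp [forms, rhs] at b5
  set Y := de + (dp + dr) with hYd
  set l := xr / dr / ρ with hl
  set m := ye / de / σ with hm
  -- the two-term forms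
  have hp2 : xp * dr = xr * dp := by
    rw [bl2_eq hp hr hW, div_eq_zero_iff, mul_self_eq_zero] at a1
    exact sub_eq_zero.1 (a1.resolve_right (mul_ne_zero (mul_ne_zero hp hr) hW))
  have he2 : ye * (dp + dr) = (yp + yr) * de := by
    rw [bl2_eq he hW hY, div_eq_zero_iff, mul_self_eq_zero] at b0
    exact sub_eq_zero.1 (b0.resolve_right (mul_ne_zero (mul_ne_zero he hW) hY))
  set a := xe / ρ - l * de with ha
  set η := yp / σ - m * dp with hη
  have h3 : a ^ 2 * (dp + dr) = 2 * (de * Y) := by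
    rw [bl2_eq he hW hY, div_eq_iff (mul_ne_zero (mul_ne_zero he hW) hY)] at a0
    rw [ha, hl, ← hρ] at *
    field_simp
    have key : dr * (xe * (dp + dr) - (xp + xr) * de) =
        (dp + dr) * (xe * dr - xr * de) := by linear_combination -de * hp2
    have : (dp + dr) * ((xe * dr - xr * de) ^ 2 * (dp + dr) - 2 * de * Y * ρ ^ 2 * dr ^ 2) = 0 := by
      linear_combination dr ^ 2 * a0 -
        (dr * (xe * (dp + dr) - (xp + xr) * de) + (dp + dr) * (xe * dr - xr * de)) * key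
    linear_combination (mul_eq_zero.1 this).resolve_left hW
  have h4 : η ^ 2 * (dp + dr) = 2 * (dp * dr) := by
    rw [bl2_eq hp hr hW, div_eq_iff (mul_ne_zero (mul_ne_zero hp hr) hW)] at b1
    rw [hη, hm, ← hσ] at *
    field_simp
    have key : de * (yp * dr - yr * dp) = (dp + dr) * (yp * de - ye * dp) := by
      linear_combination dp * he2
    have : (dp + dr) * ((yp * de - ye * dp) ^ 2 * (dp + dr) - 2 * dp * dr * σ ^ 2 * de ^ 2) = 0 := by
      linear_combination de ^ 2 * b1 -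
        (de * (yp * dr - yr * dp) + (dp + dr) * (yp * de - ye * dp)) * key
    linear_combination (mul_eq_zero.1 this).resolve_left hW
  have hxr : xr / ρ - l * dr = 0 := by rw [hl]; field_simp; ring
  have hxY : (xe + (xp + xr)) / ρ - l * Y = a := by
    rw [ha, hl, hYd]; field_simp; linear_combination hp2
  have hxp : xp / ρ - l * dp = 0 := by rw [hl]; field_simp; linear_combination hp2
  have hyr : yr / σ - m * dr = -η := by
    rw [hη, hm]; field_simp; linear_combination -he2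
  have hyY : (ye + (yp + yr)) / σ - m * Y = 0 := by
    rw [hm, hYd]; field_simp; linear_combination -he2
  set α := -(1 / ρ - l * 1) with hα
  set β := -(1 / σ - m * 1) with hβ
  have tr : ∀ u1 u2 u3 w1 w2 w3 D1 D2 D3 τ υ lu mu : ℂ, D1 ≠ 0 → D2 ≠ 0 → D3 ≠ 0 →
      D1 + D2 + D3 ≠ 0 → bl3 (u1 / τ - lu * D1) (u2 / τ - lu * D2) (u3 / τ - lu * D3)
        (w1 / υ - mu * D1) (w2 / υ - mu * D2) (w3 / υ - mu * D3) D1 D2 D3 =
      bl3 u1 u2 u3 w1 w2 w3 D1 D2 D3 / (τ * υ) :=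
    fun u1 u2 u3 w1 w2 w3 D1 D2 D3 τ υ lu mu n1 n2 n3 n4 => by
      rw [bl3_shift lu mu n1 n2 n3 n4, bl3_smul]
  have one0 : (1 : ℂ) ≠ 0 := one_ne_zero
  have nr := neg_ne_zero.2 hr
  have np := neg_ne_zero.2 hp
  have hmr : -xr / ρ - l * -dr = 0 := by linear_combination -hxr
  have hmyr : -yr / σ - m * -dr = η := by linear_combination -hyr
  have S1 := side (d := 1) (e := de) (p := dp) (r := dr) (a := a) (η := η) (α := α) (β := β)
    one0 he hp hr hW hY hh hk h3 h4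
    (by
      have t := tr 1 xr (xe + (xp + xr)) 1 xr (xe + (xp + xr)) 1 dr Y ρ ρ l l one0 hr hY hh
      rw [hxr, hxY, a4, ← sq, hρ, div_self hca] at t
      simpa [hα] using t)
    (by
      have t := tr 1 xr (xe + (xp + xr)) 1 yr (ye + (yp + yr)) 1 dr Y ρ σ l m one0 hr hY hh
      rw [hxr, hxY, hyr, hyY, m4, hρσ, div_self hab0] at t
      simpa [hα, hβ] using t)
    (by
      have t := tr 1 yr (ye + (yp + yr)) 1 yr (ye + (yp + yr)) 1 dr Y σ σ m m one0 hr hY hh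
      rw [hyr, hyY, b4, ← sq, hσ, mul_div_cancel_left₀ _ hcb] at t
      simpa [hβ] using t)
    (by
      have t := tr 1 (-xr) (xe + (xp + xr)) 1 (-xr) (xe + (xp + xr)) 1 (-dr) Y ρ ρ l l one0 nr hY hk
      rw [hmr, hxY, a5, zero_div] at t
      simpa [hα] using t)
    (by
      have t := tr 1 (-xr) (xe + (xp + xr)) 1 (-yr) (ye + (yp + yr)) 1 (-dr) Y ρ σ l m one0 nr hY hk
      rw [hmr, hxY, hmyr, hyY, m5, hρσ, mul_div_cancel_left₀ _ hab0] at t
      simpa [hα, hβ] using t)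
    (by
      have t := tr 1 (-yr) (ye + (yp + yr)) 1 (-yr) (ye + (yp + yr)) 1 (-dr) Y σ σ m m one0 nr hY hk
      rw [hmyr, hyY, b5, ← sq, hσ, mul_div_cancel_left₀ _ hcb] at t
      simpa [hβ] using t)
  -- the mirror image
  set α' := -(xs / ρ - l * ds) with hα'
  set β' := ys / σ - m * ds with hβ'
  have hxr' : -xp / ρ - l * -dp = 0 := by linear_combination -hxp
  have hyp : yp / σ - m * dp = η := rfl
  have hnyp : -yp / σ - m * -dp = -η := by rw [hη]; ring
  have hswap : de + (dr + dp) = Y := by rw [hYd]; ring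
  have hswx : xe + (xr + xp) = xe + (xp + xr) := by ring
  have S2 := side (d := ds) (e := de) (p := dr) (r := dp) (a := a) (η := η) (α := α') (β := β')
    hs he hr hp (by rwa [add_comm]) (by rw [hswap]; exact hY) (by rw [hswap]; exact hg)
    (by rw [hswap]; intro h; exact hf (by linear_combination h + hYd))
    (by rw [add_comm dr dp, ← hYd]; exact h3)
    (by rw [add_comm dr dp, mul_comm dr dp]; exact h4)
    (by
      have t := tr xs xp (xe + (xp + xr)) xs xp (xe + (xp + xr)) ds dp Y ρ ρ l l hs hp hY hg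
      rw [hxp, hxY, a3, ← sq, hρ, div_self hca] at t
      rw [hswap]
      simpa [hα'] using t)
    (by
      have t := tr xs xp (xe + (xp + xr)) ys yp (ye + (yp + yr)) ds dp Y ρ σ l m hs hp hY hg
      rw [hxp, hxY, hyp, hyY, m3, hρσ, neg_div, div_self hab0] at t
      rw [hswap]
      have u := congrArg Neg.neg t
      rw [← bl3_neg_right] at u
      simpa [hα', hβ'] using u)
    (by
      have t := tr ys yp (ye + (yp + yr)) ys yp (ye + (yp + yr)) ds dp Y σ σ m m hs hp hY hg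
      rw [hyp, hyY, b3, ← sq, hσ, mul_div_cancel_left₀ _ hcb] at t
      rw [hswap]
      rw [← neg_neg (bl3 _ _ _ _ _ _ _ _ _), ← bl3_neg_right, ← bl3_neg_left] at t
      simpa [hβ'] using t)
    (by
      have t := tr xs (-xp) (xe + (xp + xr)) xs (-xp) (xe + (xp + xr)) ds (-dp) Y ρ ρ l l hs np hY
        (by intro h; exact hf (by linear_combination h - hYd))
      rw [hxr', hxY, mirror_eq, a2, a1, a0] at t
      rw [hswap]
      simpa [hα'] using t.trans (by ring))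
    (by
      have t := tr xs (-xp) (xe + (xp + xr)) ys (-yp) (ye + (yp + yr)) ds (-dp) Y ρ σ l m hs np hY
        (by intro h; exact hf (by linear_combination h - hYd))
      rw [hxr', hxY, hnyp, hyY, mirror_eq, m2, m1, m0, hρσ] at t
      rw [hswap]
      have u := congrArg Neg.neg t
      rw [← bl3_neg_right] at u
      simpa [hα', hβ'] using u.trans (by field_simp; ring))
    (by
      have t := tr ys (-yp) (ye + (yp + yr)) ys (-yp) (ye + (yp + yr)) ds (-dp) Y σ σ m m hs np hY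
        (by intro h; exact hf (by linear_combination h - hYd))
      rw [hnyp, hyY, mirror_eq, b2, b1, b0, ← sq, hσ] at t
      rw [hswap]
      rw [← neg_neg (bl3 _ _ _ _ _ _ _ _ _), ← bl3_neg_right, ← bl3_neg_left] at t
      simpa [hβ'] using t.trans (by field_simp; ring))
  obtain ⟨h1, e1⟩ := S1
  obtain ⟨h2, e2⟩ := S2
  exact final he hr hW h1 h2 e1 e2

end CfsgLib.Char.ThreeSFour
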