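import Cfsg.Agent.Lib.Char.ThreeSFour.Facts
import Cfsg.Agent.Lib.Char.SignedIrr
import Mathlib.Analysis.SpecialFunctions.Pow.Real
import Mathlib.Algebra.Group.Subgroup.Ker
import Mathlib.Algebra.Group.Subgroup.Finite

/-!
# The group `3³:S₄`: the characters of the table
-/

set_option autoImplicit false
set_option linter.unusedSectionVars false

namespace CfsgLib.Char.ThreeSFour

open scoped ComplexConjugate
open Cfsg CfsgLib.Char CfsgLib.Char.Signed

/-- `√3` as a complex number. -/
noncomputable def sq3 : ℂ := (Real.sqrt 3 : ℂ)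

theorem sq3_mul : sq3 * sq3 = 3 := by
  rw [sq3, ← Complex.ofReal_mul, Real.mul_self_sqrt (by norm_num)]
  norm_num

/-- The value of a table entry. -/
noncomputable def ev : ℤ × ℤ →+ ℂ where
  toFun x := (x.1 : ℂ) + (x.2 : ℂ) * sq3
  map_zero' := by simp
  map_add' x y := by simp only [Prod.fst_add, Prod.snd_add]; push_cast; ring

theorem ev_apply (x : ℤ × ℤ) : ev x = (x.1 : ℂ) + (x.2 : ℂ) * sq3 := rfl

theorem ev_int (n : ℤ) : ev (n, 0) = (n : ℂ) := by simp [ev_apply]

theorem ev_pmul (x y : ℤ × ℤ) : ev (pmul x y) = ev x * ev y := by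
  simp only [ev_apply, pmul]
  push_cast
  linear_combination (-(x.2 : ℂ) * y.2) * sq3_mul

theorem ev_psmul (n : ℤ) (x : ℤ × ℤ) : ev (psmul n x) = (n : ℂ) * ev x := by
  simp only [ev_apply, psmul]
  push_cast
  ring

theorem ev_conj (x : ℤ × ℤ) : conj (ev x) = ev x := by
  simp [ev_apply, sq3]

theorem clsOf_conj : ∀ x y : M, clsOf (y * x * y⁻¹) = clsOf x := by
  let S : Subgroup M :=
    { carrier := {y | ∀ x, clsOf (y * x * y⁻¹) = clsOf x}
      one_mem' := fun x => by rw [one_mul, inv_one, mul_one]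
      mul_mem' := fun {a b} ha hb x => by
        rw [show a * b * x * (a * b)⁻¹ = a * (b * x * b⁻¹) * a⁻¹ by group, ha, hb]
      inv_mem' := fun {a} ha x => by
        have := ha (a⁻¹ * x * a⁻¹⁻¹)
        rw [show a * (a⁻¹ * x * a⁻¹⁻¹) * a⁻¹ = x by group] at this
        exact this.symm }
  have hS : S = ⊤ := top_le_iff.1 (by
    rw [← closure_gens, Subgroup.closure_le]
    intro y hy x
    simp only [Set.mem_insert_iff, Set.mem_singleton_iff] at hy
    refine forall_m (P := fun x => clsOf (y * x * y⁻¹) = clsOf x) (fun v s => ?_) x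
    rcases hy with rfl | rfl | rfl | rfl <;> exact cls_gens v s _ (by simp))
  intro x y
  exact (show y ∈ S from hS ▸ Subgroup.mem_top y) x

theorem exists_conj_rep (x : M) : ∃ w : M, w * repM (clsOf x) * w⁻¹ = x :=
  ⟨witM x, forall_m (P := fun x => witM x * repM (clsOf x) * (witM x)⁻¹ = x) rep_conj x⟩

theorem clsOf_eq_imp {x y : M} (h : clsOf x = clsOf y) : ∃ w : M, w * x * w⁻¹ = y := by
  obtain ⟨a, ha⟩ := exists_conj_rep x
  obtain ⟨b, hb⟩ := exists_conj_rep y
  refine ⟨b * a⁻¹, ?_⟩
  rw [← hb, ← h]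
  conv_lhs => rw [← ha]
  group

theorem card_M : Fintype.card M = 648 := by
  rw [← Fintype.card_congr mEquiv, Fintype.card_prod, Fintype.card_fin, Fintype.card_fin]

theorem sum_cls (f : Fin 14 → ℂ) : ∑ x : M, f (clsOf x) = ∑ c, (size c : ℂ) * f c := by
  rw [← Finset.sum_fiberwise Finset.univ clsOf (fun x => f (clsOf x))]
  refine Finset.sum_congr rfl fun c _ => ?_
  rw [Finset.sum_congr rfl (g := fun _ => f c) fun x hx => by rw [(Finset.mem_filter.1 hx).2],
    Finset.sum_const, nsmul_eq_mul, ← cls_card c, Int.cast_natCast]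

/-- A primitive twelfth root of unity. -/
noncomputable def zeta : ℂ := (sq3 + Complex.I) / 2

theorem zeta_three : zeta ^ 3 = Complex.I := by
  rw [zeta]
  linear_combination ((sq3 + 3 * Complex.I) / 8) * sq3_mul +
    ((3 * sq3 + Complex.I) / 8) * Complex.I_mul_I

theorem zeta_four : zeta ^ 4 = zeta ^ 2 - 1 := by
  have h : zeta ^ 4 = Complex.I * zeta := by rw [← zeta_three]; ring
  rw [h, zeta]
  linear_combination (-1 / 4 : ℂ) * sq3_mul + (1 / 4 : ℂ) * Complex.I_mul_I

theorem zeta_twelve : zeta ^ 12 = 1 := by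
  rw [show zeta ^ 12 = (zeta ^ 3) ^ 4 by ring, zeta_three, Complex.I_pow_four]

theorem two_zeta : 2 * zeta - zeta ^ 3 = sq3 := by rw [zeta_three, zeta]; ring

/-- The value of four coordinates. -/
noncomputable def ev4 : ℤ × ℤ × ℤ × ℤ →+ ℂ where
  toFun x := (x.1 : ℂ) + (x.2.1 : ℂ) * zeta + (x.2.2.1 : ℂ) * zeta ^ 2 + (x.2.2.2 : ℂ) * zeta ^ 3
  map_zero' := by simp
  map_add' x y := by simp only [Prod.fst_add, Prod.snd_add]; push_cast; ring

theorem ev4_apply (x : ℤ × ℤ × ℤ × ℤ) :
    ev4 x = (x.1 : ℂ) + (x.2.1 : ℂ) * zeta + (x.2.2.1 : ℂ) * zeta ^ 2 + (x.2.2.2 : ℂ) * zeta ^ 3 := rfl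

theorem ev4_qsmul (n : ℤ) (x : ℤ × ℤ × ℤ × ℤ) : ev4 (qsmul n x) = (n : ℂ) * ev4 x := by
  simp only [ev4_apply, qsmul]
  push_cast
  ring

theorem ev4_zco : ∀ n, n < 12 → ev4 (zco n) = zeta ^ n := by
  have e := zeta_four
  have e5 : zeta ^ 5 = zeta ^ 3 - zeta := by linear_combination zeta * e
  have e6 : zeta ^ 6 = -1 := by linear_combination (zeta ^ 2 + 1) * e
  intro n hn
  interval_cases n <;> simp [zco, ev4_apply]
  · linear_combination -e
  · linear_combination -e5
  · linear_combination -e6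
  · linear_combination -zeta * e6
  · linear_combination -zeta ^ 2 * e6
  · linear_combination -zeta ^ 3 * e6
  · linear_combination e - zeta ^ 4 * e6
  · linear_combination e5 - zeta ^ 5 * e6

theorem ev4_target (k c : Fin 14) : ev4 (target k c) = (ord k : ℂ) * ev (tbl k c) := by
  simp only [ev4_apply, target, ev_apply, ← two_zeta]
  push_cast
  ring

/-- The inducing subgroup. -/
def monoSub (k : Fin 14) : Subgroup M where
  carrier := {x | slin k x.s < 12}
  one_mem' := by
    show slin k 0 < 12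
    rw [(slin_hom k).1]
    norm_num
  mul_mem' := fun {a b} ha hb => ((slin_hom k).2 a.s b.s ha hb).1
  inv_mem' := fun {a} ha => slin_inv k a.s ha

/-- The linear character. -/
noncomputable def monoHom (k : Fin 14) : monoSub k →* ℂ where
  toFun x := zeta ^ xexp k x.1
  map_one' := by
    show zeta ^ xexp k (1 : M) = 1
    rw [show xexp k (1 : M) = 0 by
      show (4 * wdot k 0 + slin k 0) % 12 = 0
      rw [(wdot_add k).1, (slin_hom k).1], pow_zero]
  map_mul' x y := by
    rw [← pow_add]
    have e : xexp k ((x * y : monoSub k) : M) = (xexp k x.1 + xexp k y.1) % 12 := by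
      show (4 * wdot k (tAdd x.1.v (sAct x.1.s y.1.v)) + slin k (sMul x.1.s y.1.s)) % 12 = _
      rw [(wdot_add k).2, wdot_act k x.1.s x.2, ((slin_hom k).2 _ _ x.2 y.2).2]
      simp only [xexp]
      omega
    rw [e]
    conv_rhs => rw [← Nat.mod_add_div (xexp k x.1 + xexp k y.1) 12, pow_add, pow_mul, zeta_twelve,
      one_pow, mul_one]

/-- A character of the table. -/
noncomputable def chi (k : Fin 14) : M → ℂ := indFun (monoSub k) fun x => monoHom k x

theorem chi_isCharacter (k : Fin 14) : IsCharacter M (chi k) :=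
  isCharacter_indFun (monoSub k) (isCharacter_of_isIrr (isIrrCharacter_lin (monoHom k).toHomUnits))

theorem chi_apply (k : Fin 14) (x : M) : chi k x = ev (tbl k (clsOf x)) := by
  classical
  have hcl : ∀ r : M, (∀ y, clsOf y = clsOf r → ∃ w, w * r * w⁻¹ = y) :=
    fun r y h => clsOf_eq_imp h.symm
  obtain ⟨w, hw⟩ := exists_conj_rep x
  set c := clsOf x with hc
  rw [← hw, chi, isClassFunction_indFun (monoSub k) _ (repM c) w, indFun]
  have hterm : ∀ y : M, extendByZero (monoSub k) (fun x => monoHom k x) y = ev4 (term k y) := by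
    intro y
    unfold term
    split_ifs with h
    · have h' : y ∈ monoSub k := h
      rw [extendByZero_mem (monoSub k) _ h',
        show ev4 (zco (xexp k y)) = zeta ^ xexp k y from ev4_zco _ (Nat.mod_lt _ (by norm_num))]
      rfl
    · have h' : y ∉ monoSub k := h
      rw [extendByZero_not_mem (monoSub k) _ h']
      exact (map_zero ev4).symm
  simp only [hterm]
  set T : M → ℂ := fun y => ev4 (term k y) with hT
  have hinv : ∀ r : M, clsOf r = c → ∑ g, T (g⁻¹ * r * g) = ∑ g, T (g⁻¹ * repM c * g) := by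
    intro r hr
    obtain ⟨u, hu⟩ := exists_conj_rep r
    rw [hr] at hu
    subst hu
    refine Fintype.sum_bijective (fun g => u⁻¹ * g) (Group.mulLeft_bijective _) _ _ fun g => ?_
    congr 1
    group
  have hconst : ∀ g : M, ∑ r ∈ Finset.univ.filter (fun r => clsOf r = c), T (g⁻¹ * r * g) =
      ∑ r ∈ Finset.univ.filter (fun r => clsOf r = c), T r := by
    intro g
    refine Finset.sum_bij (fun r _ => g⁻¹ * r * g) (fun r hr => ?_) (fun a _ b _ e => by simpa using e)
      (fun b hb => ⟨g * b * g⁻¹, ?_, by group⟩) fun r _ => rfl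
    · simp only [Finset.mem_filter, Finset.mem_univ, true_and] at hr ⊢
      rw [← hr]
      simpa using clsOf_conj r g⁻¹
    · simp only [Finset.mem_filter, Finset.mem_univ, true_and] at hb ⊢
      rw [clsOf_conj, hb]
  have key : (size c : ℂ) * ∑ g, T (g⁻¹ * repM c * g) =
      648 * ∑ r ∈ Finset.univ.filter (fun r => clsOf r = c), T r := by
    have e1 : ∑ r ∈ Finset.univ.filter (fun r => clsOf r = c), ∑ g, T (g⁻¹ * r * g) =
        (size c : ℂ) * ∑ g, T (g⁻¹ * repM c * g) := by
      rw [Finset.sum_congr rfl fun r hr => hinv r (Finset.mem_filter.1 hr).2, Finset.sum_const,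
        nsmul_eq_mul, ← cls_card c, Int.cast_natCast]
    rw [← e1, Finset.sum_comm, Finset.sum_congr rfl fun g _ => hconst g, Finset.sum_const,
      nsmul_eq_mul, Finset.card_univ, card_M]
    norm_num
  have hs : (648 : ℂ) * ∑ r ∈ Finset.univ.filter (fun r => clsOf r = c), T r =
      (size c : ℂ) * ((ord k : ℂ) * ev (tbl k c)) := by
    have := congrArg ev4 (ind_eq c k)
    rw [ev4_qsmul, ev4_qsmul, map_sum, ev4_target] at this
    exact_mod_cast this
  have hsz : (size c : ℂ) ≠ 0 := by
    have : ∀ c, size c ≠ 0 := by decide +kernel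
    exact_mod_cast this c
  have hval := mul_left_cancel₀ hsz (key.trans hs)
  have hK : (Nat.card (monoSub k) : ℂ) = (ord k : ℂ) := by
    rw [← ord_card k, Int.cast_natCast, Nat.card_eq_fintype_card, Fintype.card_subtype]
    congr 2
    exact Finset.filter_congr fun x _ => Iff.rfl
  have hK0 : (ord k : ℂ) ≠ 0 := hK ▸ (by exact_mod_cast Nat.card_pos.ne')
  rw [hval, hK, ← mul_assoc, inv_mul_cancel₀ hK0, one_mul]

/-- A function with the values of a class vector. -/
noncomputable def clFun (f : Fin 14 → ℤ × ℤ) : M → ℂ := fun x => ev (f (clsOf x))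

theorem chi_eq (k : Fin 14) : chi k = clFun (tbl k) := funext (chi_apply k)

theorem classInner_clFun (f g : Fin 14 → ℤ × ℤ) :
    classInner (clFun f) (clFun g) = ev (∑ c, psmul (size c) (pmul (f c) (g c))) / 648 := by
  simp only [classInner, clFun, ev_conj]
  rw [sum_cls (fun c => ev (f c) * ev (g c)), Nat.card_eq_fintype_card, card_M, map_sum,
    div_eq_inv_mul]
  push_cast
  congr 1
  exact Finset.sum_congr rfl fun c _ => by rw [ev_psmul, ev_pmul]

/-- A lattice vector as a function. -/
noncomputable def vfun (i : Fin 10) : M → ℂ := clFun (vval i)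

theorem vfun_gen (i : Fin 10) : IsGeneralizedCharacter M (vfun i) := by
  have : vfun i = ∑ k, (coef i k : ℂ) • chi k := by
    funext x
    simp only [vfun, clFun, vval, map_sum, Finset.sum_apply, Pi.smul_apply, smul_eq_mul, ev_psmul,
      chi_apply]
  rw [this]
  exact isGeneralizedCharacter_sum _ _ fun k _ =>
    isGeneralizedCharacter_zsmul (isGeneralizedCharacter_of_isCharacter (chi_isCharacter k)) _

theorem classInner_vfun (i j : Fin 10) : classInner (vfun i) (vfun j) = (gramFn i.val j.val : ℂ) := by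
  rw [vfun, vfun, classInner_clFun, gram_eq, ev_int]
  push_cast
  ring

theorem vfun_zero : vfun 0 = fun _ => (1 : ℂ) := funext fun x => by
  rw [vfun, clFun, vval_zero, ev_int, Int.cast_one]

/-- One of the six functions. -/
noncomputable def sfun (m : Fin 6) : M → ℂ := clFun (sval m)

theorem sfun_eq (m : Fin 6) : sfun m = ∑ i, (comb6 m i : ℂ) • vfun i := by
  funext x
  simp only [sfun, sval, vfun, clFun, map_sum, Finset.sum_apply, Pi.smul_apply, smul_eq_mul, ev_psmul]

end CfsgLib.Char.ThreeSFour
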