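import Cfsg.Agent.Lib.Char.ThreeSFour.Model
import Cfsg.Agent.Lib.Char.ThreeFourModel
import Mathlib.Algebra.BigOperators.Group.Finset.Basic
import Mathlib.Algebra.BigOperators.Fin
import Mathlib.Algebra.Group.Prod

/-!
# The group `3³:S₄`: verified table facts
-/

set_option autoImplicit false
set_option maxRecDepth 100000

namespace CfsgLib.Char.ThreeSFour

/-- The class of an element. -/
def clsOf (x : M) : Fin 14 :=
  ⟨(Data.cls.getD x.v.val []).getD x.s.val 0 % 14, Nat.mod_lt _ (by decide)⟩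

/-- The representative of a class. -/
def repM (c : Fin 14) : M := ofCode (Data.reps.getD c.val 0)

/-- The conjugator from the representative. -/
def witM (x : M) : M := ofCode ((Data.wit.getD x.v.val []).getD x.s.val 0)

/-- The class sizes. -/
def size (c : Fin 14) : ℤ := (Data.sizes.getD c.val 0 : ℕ)

/-- A table entry, `a + b√3`. -/
def tbl (k c : Fin 14) : ℤ × ℤ := (Data.table.getD k.val []).getD c.val (0, 0)

/-- Multiplication of `a + b√3`. -/
def pmul (x y : ℤ × ℤ) : ℤ × ℤ := (x.1 * y.1 + 3 * (x.2 * y.2), x.1 * y.2 + x.2 * y.1)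

/-- A scalar multiple. -/
def psmul (n : ℤ) (x : ℤ × ℤ) : ℤ × ℤ := (n * x.1, n * x.2)

/-- The trivial function and the nine functions of the lattice, on the irreducible characters. -/
def vecs : List (List ℤ) :=
  [[1, 0, 0, 0, 0, 0, 0, 0, 0, 0, 0, 0, 0, 0],
    [0, 0, 0, 0, 0, 0, 1, 0, -1, 0, 0, 0, 0, 0],
    [0, 0, 0, 0, 0, 0, 0, 0, 0, 0, 0, 0, 1, -1],
    [0, 0, 1, 1, 0, 0, -1, 0, 0, 0, 0, 0, 0, 0],
    [0, 0, 0, 0, 1, 0, 0, 0, 1, 0, 0, 0, 0, -1],
    [1, 0, 1, 0, 1, -1, 0, 0, 0, 0, 0, 0, 0, 0],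
    [1, 1, 0, 0, 0, 0, 1, 0, 0, 0, 0, -1, 0, 0],
    [0, 1, 1, 0, 0, 0, 0, 0, 0, 0, -1, 0, 0, 1],
    [1, 0, 0, 1, 0, 0, 0, 0, 0, -1, 0, 0, 1, 0],
    [0, 1, -1, 0, 0, 0, 0, -1, 0, 0, 0, 0, 1, 0]]

/-- The six functions in terms of the lattice. -/
def combs : List (List ℤ) :=
  [[0, 1, -1, 0, 1, 0, 0, 0, 0, 0], [0, 0, 0, 1, 0, 0, 0, 0, 0, 0],
    [0, 1, -1, 1, 1, 0, 0, 0, 0, 1], [0, 0, 1, 0, 0, 0, 0, 1, 0, 0],
    [0, 0, 0, 0, 0, 0, 0, 0, 1, 0], [0, -1, 1, -1, -1, 1, 0, 0, 0, 0]]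

/-- The Gram matrix. -/
def gram : List (List ℤ) :=
  [[1, 0, 0, 0, 0, 1, 1, 0, 1, 0], [0, 2, 0, -1, -1, 0, 1, 0, 0, 0],
    [0, 0, 2, 0, 1, 0, 0, -1, 1, 1], [0, -1, 0, 3, 0, 1, -1, 1, 1, -1],
    [0, -1, 1, 0, 3, 1, 0, -1, 0, 0], [1, 0, 0, 1, 1, 4, 1, 1, 1, -1],
    [1, 1, 0, -1, 0, 1, 4, 1, 1, 1], [0, 0, -1, 1, -1, 1, 1, 4, 0, 0],
    [1, 0, 1, 1, 0, 1, 1, 0, 4, 1], [0, 0, 1, -1, 0, -1, 1, 0, 1, 4]]

/-- The Gram matrix, as a function. -/
def gramFn (i j : ℕ) : ℤ := (gram.getD i []).getD j 0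

/-- The coefficient of an irreducible character in a lattice vector. -/
def coef (i : Fin 10) (k : Fin 14) : ℤ := (vecs.getD i.val []).getD k.val 0

/-- The coefficient of a lattice vector in one of the six functions. -/
def comb6 (m : Fin 6) (i : Fin 10) : ℤ := (combs.getD m.val []).getD i.val 0

/-- The value of a lattice vector on a class. -/
def vval (i : Fin 10) (c : Fin 14) : ℤ × ℤ := ∑ k : Fin 14, psmul (coef i k) (tbl k c)

/-- The value of one of the six functions on a class. -/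
def sval (m : Fin 6) (c : Fin 14) : ℤ × ℤ := ∑ i : Fin 10, psmul (comb6 m i) (vval i c)

theorem rep_conj : ∀ v s, witM ⟨v, s⟩ * repM (clsOf ⟨v, s⟩) * (witM ⟨v, s⟩)⁻¹ = ⟨v, s⟩ := by
  decide +kernel

theorem cls_gens : ∀ v s, ∀ n ∈ [216, 16, 291, 32],
    clsOf (ofCode n * ⟨v, s⟩ * (ofCode n)⁻¹) = clsOf ⟨v, s⟩ := by decide +kernel

theorem cls_card : ∀ c, ((Finset.univ.filter fun x : M => clsOf x = c).card : ℤ) = size c := by
  decide +kernel

theorem cls_one : clsOf 1 = 0 := by decide +kernel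

theorem gram_eq : ∀ i j : Fin 10, ∑ c, psmul (size c) (pmul (vval i c) (vval j c)) =
    (648 * gramFn i.val j.val, 0) := by decide +kernel

theorem vval_zero : ∀ c, vval 0 c = (1, 0) := by decide +kernel

theorem vval_supp : ∀ i : Fin 10, i ≠ 0 → ∀ c : Fin 14, c.val ≤ 4 → vval i c = (0, 0) := by
  decide +kernel

theorem gram_le : ∀ i : Fin 10, gramFn i.val i.val ≤ 4 := by decide +kernel

theorem comb6_zero : ∀ m, comb6 m 0 = 0 := by decide +kernel

/-- The six functions are as announced. -/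
theorem sval_three : ∀ c, sval 0 c = tbl 4 c + tbl 6 c + psmul (-1) (tbl 12 c) := by decide +kernel

theorem tbl_norm : ∀ k, ∑ c, psmul (size c) (pmul (tbl k c) (tbl k c)) = (648, 0) := by
  decide +kernel

theorem tbl_orth : ∀ k, k = 6 ∨ k = 12 →
    ∑ c, psmul (size c) (pmul (tbl 4 c) (tbl k c)) = (0, 0) := by decide +kernel

theorem tbl_deg : (tbl 4 0, tbl 6 0, tbl 12 0) = ((2, 0), (6, 0), (8, 0)) := by decide +kernel

/-! ### The class algebra -/

/-- The class of the first kind of involutions. -/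
def clA : Fin 14 := 1

/-- The class of the second kind of involutions. -/
def clB : Fin 14 := 3

/-- The sum of one of the six functions over the translates of a class by a representative. -/
def pairSum (i j : Fin 14) (m : Fin 6) : ℤ × ℤ :=
  psmul (size i)
    (∑ z ∈ (Finset.univ.filter fun x : M => clsOf x = j), sval m (clsOf (repM i * z)))

/-- The right-hand sides. -/
def rhsM : List (List ℤ) := [[2, 0, 2, 1, 1, 0], [0, 0, -2, -1, 1, 2], [0, 2, 4, 3, 3, 2]]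

theorem pair_aa : ∀ m : Fin 6, pairSum clA clA m = (972 * (rhsM.getD 0 []).getD m.val 0, 0) := by
  decide +kernel

theorem pair_ab : ∀ m : Fin 6, pairSum clA clB m = (972 * (rhsM.getD 1 []).getD m.val 0, 0) := by
  decide +kernel

theorem pair_bb : ∀ m : Fin 6, pairSum clB clB m = (972 * (rhsM.getD 2 []).getD m.val 0, 0) := by
  decide +kernel

/-! ### Facts about the elements -/

/-- The nontrivial elements of the 3-core. -/
def InJ (x : M) : Prop := x.s = 0 ∧ x ≠ 1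

instance instDecInJ : DecidablePred InJ := fun x => inferInstanceAs (Decidable (_ ∧ _))

/-- The exponent carrying a class into the core. -/
def expo (c : Fin 14) : ℕ := [0, 0, 0, 0, 0, 1, 2, 2, 4, 4, 3, 3, 1, 1].getD c.val 0

theorem pow_mem_J : ∀ c : Fin 14, 4 < c.val → InJ (repM c ^ expo c) := by decide +kernel

theorem invol_cls : ∀ v s, (⟨v, s⟩ : M) * ⟨v, s⟩ = 1 →
    (⟨v, s⟩ : M) = 1 ∨ clsOf ⟨v, s⟩ = clA ∨ clsOf ⟨v, s⟩ = clB := by decide +kernel

/-- The number of commuting elements. -/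
def cCard (x : M) : ℕ := (Finset.univ.filter fun y : M => y * x = x * y).card

theorem cCard_eq : ∀ w : Fin 27, w ≠ 0 →
    cCard ⟨w, 0⟩ = if clsOf ⟨w, 0⟩ = 5 then 108 else if clsOf ⟨w, 0⟩ = 12 then 54 else 81 := by
  decide +kernel

theorem J_cls : ∀ w : Fin 27, w ≠ 0 →
    clsOf ⟨w, 0⟩ = 5 ∨ clsOf ⟨w, 0⟩ = 12 ∨ clsOf ⟨w, 0⟩ = 13 := by decide +kernel

/-- The two involutions and the elements of the core centralized by them. -/
def invA : M := ofCode 1
/-- The second involution. -/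
def invB : M := ofCode 6
/-- An element of the core commuting with `invA`. -/
def uA : M := ofCode 216
/-- An element of the core commuting with `invB`. -/
def uB : M := ofCode 96

theorem inv_spec : invA * invA = 1 ∧ invB * invB = 1 ∧ clsOf invA = clA ∧ clsOf invB = clB ∧
    InJ uA ∧ InJ uB ∧ uA * invA = invA * uA ∧ uB * invB = invB * uB ∧
    uA * uA * uA = 1 ∧ uB * uB * uB = 1 := by decide +kernel

theorem three_A : ∀ v s, (⟨v, s⟩ : M) * invA = invA * ⟨v, s⟩ → (⟨v, s⟩ : M) * uA = uA * ⟨v, s⟩ →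
    (⟨v, s⟩ : M) ^ 81 = 1 → (⟨v, s⟩ : M) = 1 ∨ (⟨v, s⟩ : M) = uA ∨ (⟨v, s⟩ : M) = uA * uA := by
  decide +kernel

theorem three_B : ∀ v s, (⟨v, s⟩ : M) * invB = invB * ⟨v, s⟩ → (⟨v, s⟩ : M) * uB = uB * ⟨v, s⟩ →
    (⟨v, s⟩ : M) ^ 81 = 1 → (⟨v, s⟩ : M) = 1 ∨ (⟨v, s⟩ : M) = uB ∨ (⟨v, s⟩ : M) = uB * uB := by
  decide +kernel

theorem J_cube : ∀ w : Fin 27, (⟨w, 0⟩ : M) * ⟨w, 0⟩ * ⟨w, 0⟩ = 1 := by decide +kernel

theorem J_mul : ∀ w w' : Fin 27, ((⟨w, 0⟩ : M) * ⟨w', 0⟩).s = 0 := by decide +kernel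

theorem J_normal : ∀ v s, ∀ w : Fin 27,
    ((⟨v, s⟩ : M) * ⟨w, 0⟩ * (⟨v, s⟩ : M)⁻¹).s = 0 := by decide +kernel

theorem core_wit : ∀ v s, s ≠ 0 → ∃ t ∈ ([1, 2, 4, 8] : List (Fin 24)),
    ((⟨v, s⟩ : M)⁻¹ * ((⟨0, t⟩ : M) * ⟨v, s⟩ * (⟨0, t⟩ : M)⁻¹)) ^ 81 ≠ 1 := by decide +kernel

/-! ### The kernel of the character of degree two -/

/-- The product of three dihedral groups corresponding to an element. -/
def toAmb (x : M) : ThreeFour.Amb :=
  let comp := fun (i : Fin 9) =>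
    if ((mPt x (i + 1)).val + 3 - (mPt x i).val % 3) % 3 = 2 then
      (DihedralGroup.sr ((1 - ((mPt x i).val % 3 : ℕ) : ZMod 3)) : ThreeFour.D3)
    else DihedralGroup.r (((mPt x i).val % 3 : ℕ) : ZMod 3)
  (comp 0, comp 3, comp 6)

theorem ker_fwd : ∀ v s, tbl 4 (clsOf ⟨v, s⟩) = (2, 0) →
    ThreeFour.Ev (toAmb ⟨v, s⟩) ∧ ∀ p, mPt ⟨v, s⟩ p = ThreeFour.blockMap 0 (toAmb ⟨v, s⟩).1
      (ThreeFour.blockMap 1 (toAmb ⟨v, s⟩).2.1 (ThreeFour.blockMap 2 (toAmb ⟨v, s⟩).2.2 p)) := by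
  decide +kernel

/-- The element with the action of a triple. -/
def ofAmb (x : ThreeFour.Amb) : M :=
  decode fun p => ThreeFour.blockMap 0 x.1 (ThreeFour.blockMap 1 x.2.1 (ThreeFour.blockMap 2 x.2.2 p))

theorem ker_bwd : ∀ x : ThreeFour.Amb, ThreeFour.Ev x → tbl 4 (clsOf (ofAmb x)) = (2, 0) ∧
    ∀ p, mPt (ofAmb x) p = ThreeFour.blockMap 0 x.1 (ThreeFour.blockMap 1 x.2.1
      (ThreeFour.blockMap 2 x.2.2 p)) := by decide +kernel

/-! ### The monomial characters -/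

/-- The weight of a translation. -/
def wdot (k : Fin 14) (a : Fin 27) : ℕ :=
  let w := Data.weight.getD k.val []
  (w.getD 0 0 * (a.val / 9) + w.getD 1 0 * (a.val / 3 % 3) + w.getD 2 0 * (a.val % 3)) % 3

/-- The exponent on the stabilizer, with 12 outside it. -/
def slin (k : Fin 14) (s : Fin 24) : ℕ := (Data.lin.getD k.val []).getD s.val 12

/-- The exponent of the linear character. -/
def xexp (k : Fin 14) (x : M) : ℕ := (4 * wdot k x.v + slin k x.s) % 12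

theorem slin_hom : ∀ k : Fin 14, slin k 0 = 0 ∧ ∀ s t : Fin 24, slin k s < 12 → slin k t < 12 →
    slin k (sMul s t) < 12 ∧ slin k (sMul s t) = (slin k s + slin k t) % 12 := by decide +kernel

theorem slin_inv : ∀ k : Fin 14, ∀ s : Fin 24, slin k s < 12 → slin k (sInv s) < 12 := by
  decide +kernel

theorem wdot_add : ∀ k : Fin 14, wdot k 0 = 0 ∧ ∀ a b : Fin 27,
    wdot k (tAdd a b) = (wdot k a + wdot k b) % 3 := by decide +kernel

theorem wdot_act : ∀ k : Fin 14, ∀ s : Fin 24, slin k s < 12 → ∀ a : Fin 27,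
    wdot k (sAct s a) = wdot k a := by decide +kernel

/-- The coordinates of a power of a primitive twelfth root of unity. -/
def zco (n : ℕ) : ℤ × ℤ × ℤ × ℤ :=
  [(1, 0, 0, 0), (0, 1, 0, 0), (0, 0, 1, 0), (0, 0, 0, 1), (-1, 0, 1, 0), (0, -1, 0, 1),
    (-1, 0, 0, 0), (0, -1, 0, 0), (0, 0, -1, 0), (0, 0, 0, -1), (1, 0, -1, 0),
    (0, 1, 0, -1)].getD n (0, 0, 0, 0)

/-- A summand of an induced character. -/
def term (k : Fin 14) (g : M) : ℤ × ℤ × ℤ × ℤ :=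
  if slin k g.s < 12 then zco (xexp k g) else (0, 0, 0, 0)

/-- The order of the inducing subgroup. -/
def ord (k : Fin 14) : ℤ := 27 * (Data.stab.getD k.val 0 : ℕ)

/-- The announced sum. -/
def target (k c : Fin 14) : ℤ × ℤ × ℤ × ℤ :=
  (ord k * (tbl k c).1, 2 * (ord k * (tbl k c).2), 0, -(ord k * (tbl k c).2))

theorem ord_card : ∀ k : Fin 14,
    ((Finset.univ.filter fun x : M => slin k x.s < 12).card : ℤ) = ord k := by decide +kernel

/-- Four-component scalar multiple. -/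
def qsmul (n : ℤ) (x : ℤ × ℤ × ℤ × ℤ) : ℤ × ℤ × ℤ × ℤ :=
  (n * x.1, n * x.2.1, n * x.2.2.1, n * x.2.2.2)

theorem ind_eq : ∀ c k : Fin 14,
    qsmul 648 (∑ x ∈ (Finset.univ.filter fun x : M => clsOf x = c), term k x) =
      qsmul (size c) (target k c) := by decide +kernel

end CfsgLib.Char.ThreeSFour
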