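import Cfsg.Agent.Lib.Char.GramSearch.Basic
import Cfsg.Agent.Lib.Char.ThreeSFour.Facts

/-!
# The group `3³:S₄`: the constituents of the induced lattice
-/

set_option autoImplicit false
set_option linter.unusedSectionVars false

namespace CfsgLib.Char.ThreeSFour

open Cfsg CfsgLib.Char CfsgLib.Char.Signed CfsgLib.Char.GramSearch

/-- Sum of vectors. -/
def vadd (a b : List ℤ) : List ℤ := List.zipWith (· + ·) a b

/-- Negative of a vector. -/
def vneg (a : List ℤ) : List ℤ := a.map ((-1) * ·)

/-- The part of `a` on the support of `b`. -/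
def mask (a b : List ℤ) : List ℤ := List.zipWith (fun x y => if y = 0 then 0 else x) a b

/-- One of the six functions on the constituents. -/
def sixRow (cs : List (List ℤ)) (m : ℕ) : List ℤ := cs.map fun c => dot (combs.getD m []) c

/-- The trivial function on the constituents. -/
def oneRow (cs : List (List ℤ)) : List ℤ := row 0 cs

/-- The constituents `W, Y, e, r, p, s, f, g, h, k`. -/
def parts10 (cs : List (List ℤ)) : List (List ℤ) :=
  let v3 := sixRow cs 0
  let v4 := sixRow cs 1
  let v5 := sixRow cs 2
  let v6 := sixRow cs 3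
  let v7 := sixRow cs 4
  let v8 := sixRow cs 5
  let W := vneg (mask v4 v3)
  let Y := mask v7 v3
  let e := vadd v3 (vadd (vneg W) Y)
  let r := mask v4 v7
  let p := vadd v4 (vadd (vneg r) W)
  let s := mask v5 v6
  [W, Y, e, r, p, s, vadd s (vadd r (vadd e (vneg v5))), vadd s (vadd p (vadd Y (vneg v6))),
    vadd (oneRow cs) (vadd r (vadd Y (vneg v7))),
    vadd (oneRow cs) (vadd (vneg r) (vadd Y (vneg v8)))]

/-- The pattern of the natural solution. -/
def good (cs : List (List ℤ)) : Bool :=
  (parts10 cs).all (fun v => dot v v == 1) &&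
    (dot ((parts10 cs).getD 2 []) ((parts10 cs).getD 0 []) == 0 &&
      dot ((parts10 cs).getD 2 []) ((parts10 cs).getD 1 []) == 0)

/-- A combination of degree zero with one constituent. -/
def bad (cs : List (List ℤ)) : Bool :=
  (cs.map fun c => dot [0, -1, -1, 0, 1, 0, 0, 0, 0, 1] c).countP (fun a => !(a == 0)) == 1

theorem search_ok : (run gramFn 10).all (fun cs => good cs || bad cs) = true := by decide +kernel

end CfsgLib.Char.ThreeSFour
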