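import Cfsg.Agent.Lib.Char.ThreeSFour.Induced
import Cfsg.Agent.Lib.Char.ThreeSFour.Search
import Cfsg.Agent.Lib.Char.ThreeSFour.Algebra

/-!
# An embedded `3³:S₄`: a signed irreducible of degree two
-/

set_option autoImplicit false
set_option linter.unusedSectionVars false

namespace CfsgLib.Char.ThreeSFour

open scoped ComplexConjugate
open Cfsg CfsgLib.Char CfsgLib.Char.Signed CfsgLib.Char.GramSearch

universe u

variable {G : Type u} [Group G] [Fintype G] {H : Subgroup G} {φ : H ≃* M}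

theorem dot_eq_sum : ∀ (n : ℕ) (w c : List ℤ), w.length = n → c.length = n →
    dot w c = ∑ i : Fin n, w.getD i.val 0 * c.getD i.val 0
  | 0, [], [], _, _ => by simp [dot]
  | n + 1, a :: w, b :: c, hw, hc => by
    rw [Fin.sum_univ_succ]
    simp only [dot, Fin.val_zero, List.getD_cons_zero, Fin.val_succ, List.getD_cons_succ]
    rw [dot_eq_sum n w c (Nat.succ.inj hw) (Nat.succ.inj hc)]

theorem comb_rows (w : List ℤ) (hw : w.length = 10) : ∀ (cs : List (List ℤ)) (l : List (G → ℂ)),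
    cs.length = l.length → (∀ c ∈ cs, c.length = 10) →
      comb (cs.map fun c => dot w c) l =
        ∑ i : Fin 10, (w.getD i.val 0 : ℂ) • comb (row i.val cs) l
  | [], [], _, _ => by simp [comb, row]
  | c :: cs, x :: l, hlen, hc => by
    simp only [List.map_cons, row, comb, smul_add, Finset.sum_add_distrib, smul_smul]
    rw [comb_rows w hw cs l (Nat.succ.inj hlen) fun d hd => hc d (List.mem_cons_of_mem _ hd),
      ← Finset.sum_smul, dot_eq_sum 10 w c hw (hc c List.mem_cons_self)]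
    push_cast
    rfl

theorem comb_single : ∀ (v : List ℤ) (l : List (G → ℂ)), v.length = l.length → (∀ x ∈ l, Sg x) →
    v.countP (fun a => !(a == 0)) = 1 → comb v l 1 ≠ 0
  | [], _, _, _, h => by simp at h
  | a :: v, x :: l, hlen, hl, h => by
    by_cases ha : a = 0
    · subst ha
      rw [List.countP_cons] at h
      simp only [comb, Int.cast_zero, zero_smul, zero_add]
      exact comb_single v l (Nat.succ.inj hlen) (fun y hy => hl y (List.mem_cons_of_mem _ hy))
        (by simpa using h)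
    · rw [List.countP_cons_of_pos (by simpa using ha)] at h
      have h0 : v.countP (fun a => !(a == 0)) = 0 := by omega
      rw [List.countP_eq_zero] at h0
      simp only [comb]
      rw [comb_zeros v l fun b hb => by simpa using h0 b hb, add_zero, Pi.smul_apply, smul_eq_mul]
      exact mul_ne_zero (by exact_mod_cast ha) (hl x List.mem_cons_self).apply_one_ne

theorem length_vadd {n : ℕ} {a b : List ℤ} (ha : a.length = n) (hb : b.length = n) :
    (vadd a b).length = n := by simp [vadd, ha, hb]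

theorem length_vneg {n : ℕ} {a : List ℤ} (ha : a.length = n) : (vneg a).length = n := by
  simp [vneg, ha]

theorem length_mask {n : ℕ} {a b : List ℤ} (ha : a.length = n) (hb : b.length = n) :
    (mask a b).length = n := by simp [mask, ha, hb]

theorem comb_vneg (a : List ℤ) (l : List (G → ℂ)) : comb (vneg a) l = -comb a l := by
  rw [vneg, comb_smul]
  simp

theorem Sv_inner (e : Emb H φ) (m : Fin 6) {g : G} (hg : g * g = 1) : Sv φ m g = 0 :=
  e.indFun_sq _ (sval_supp m) hg

theorem combs_length : ∀ m : Fin 6, (combs.getD m.val []).length = 10 := by decide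

/-- The constituents of the six induced functions. -/
theorem Emb.constituents (e : Emb H φ) :
    ∃ W Y E R P S F K L N : G → ℂ, Sg W ∧ Sg Y ∧ Sg E ∧ Sg R ∧ Sg P ∧ Sg S ∧ Sg F ∧ Sg K ∧ Sg L ∧
      Sg N ∧ iq E W = 0 ∧ iq E Y = 0 ∧ Sv φ 0 = E + W - Y ∧ Sv φ 1 = P + R - W ∧
      Sv φ 2 = S + R + E - F ∧ Sv φ 3 = S + P + Y - K ∧
      Sv φ 4 = (fun _ => 1) + R + Y - L ∧ Sv φ 5 = (fun _ => 1) - R + Y - N := by
  classical
  let F₀ : ℕ → G → ℂ := fun i => if h : i < 10 then Fv φ ⟨i, h⟩ else 0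
  have hF : ∀ i : Fin 10, F₀ i.val = Fv φ i := fun i => dif_pos i.2
  obtain ⟨cs, hcs, l, hl, hlen, hclen, hrow⟩ := exists_run gramFn F₀ 10
    (fun i hi => ⟨by rw [show i = (⟨i, hi⟩ : Fin 10).val from rfl, hF]; exact Fv_gen φ _,
      gram_le ⟨i, hi⟩⟩)
    (fun i hi j hj => by
      rw [show i = (⟨i, hi⟩ : Fin 10).val from rfl, hF,
        show j = (⟨j, by omega⟩ : Fin 10).val from rfl, hF, e.iq_Fv])
  have hfun : ∀ w : List ℤ, w.length = 10 → comb (cs.map fun c => dot w c) l =
      ∑ i : Fin 10, (w.getD i.val 0 : ℂ) • Fv φ i := by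
    intro w hw
    rw [comb_rows w hw cs l hlen hclen]
    exact Finset.sum_congr rfl fun i _ => by rw [← hrow i.val i.2, hF]
  have hone : (1 : G) * 1 = 1 := mul_one 1
  rcases Bool.or_eq_true_iff.1 (List.all_eq_true.1 search_ok cs hcs) with hg | hb
  swap
  · exfalso
    have h1 := comb_single (cs.map fun c => dot [0, -1, -1, 0, 1, 0, 0, 0, 0, 1] c) l
      (by simpa using hlen) (hl.1) (by simpa [bad] using hb)
    rw [hfun _ rfl] at h1
    refine h1 ?_
    rw [Finset.sum_apply]
    refine Finset.sum_eq_zero fun i _ => ?_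
    by_cases hi : i = 0
    · subst hi
      simp
    · simp [e.Fv_sq hi hone]
  have hsix : ∀ m : Fin 6, comb (sixRow cs m.val) l = Sv φ m := by
    intro m
    rw [sixRow, hfun _ (combs_length m), Sv_eq]
    rfl
  have hone' : comb (oneRow cs) l = fun _ => (1 : ℂ) := by
    rw [oneRow, ← hrow 0 (by norm_num), show F₀ 0 = Fv φ 0 from hF 0, Fv_zero]
  simp only [good, parts10, List.all_cons, List.all_nil, Bool.and_true, Bool.and_eq_true,
    beq_iff_eq, List.getD_cons_zero, List.getD_cons_succ] at hg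
  generalize hv3 : sixRow cs 0 = v3 at hg
  generalize hv4 : sixRow cs 1 = v4 at hg
  generalize hv5 : sixRow cs 2 = v5 at hg
  generalize hv6 : sixRow cs 3 = v6 at hg
  generalize hv7 : sixRow cs 4 = v7 at hg
  generalize hv8 : sixRow cs 5 = v8 at hg
  generalize hv1 : oneRow cs = v1 at hg
  set n := l.length
  have l1 : v1.length = n := by simp [← hv1, oneRow, row, hlen, n]
  have l3 : v3.length = n := by simp [← hv3, sixRow, hlen, n]
  have l4 : v4.length = n := by simp [← hv4, sixRow, hlen, n]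
  have l5 : v5.length = n := by simp [← hv5, sixRow, hlen, n]
  have l6 : v6.length = n := by simp [← hv6, sixRow, hlen, n]
  have l7 : v7.length = n := by simp [← hv7, sixRow, hlen, n]
  have l8 : v8.length = n := by simp [← hv8, sixRow, hlen, n]
  have s3 : comb v3 l = Sv φ 0 := hv3 ▸ hsix 0
  have s4 : comb v4 l = Sv φ 1 := hv4 ▸ hsix 1
  have s5 : comb v5 l = Sv φ 2 := hv5 ▸ hsix 2
  have s6 : comb v6 l = Sv φ 3 := hv6 ▸ hsix 3
  have s7 : comb v7 l = Sv φ 4 := hv7 ▸ hsix 4
  have s8 : comb v8 l = Sv φ 5 := hv8 ▸ hsix 5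
  have s1 : comb v1 l = fun _ => (1 : ℂ) := hv1 ▸ hone'
  set W := vneg (mask v4 v3)
  set Y := mask v7 v3
  set E := vadd v3 (vadd (vneg W) Y)
  set R := mask v4 v7
  set P := vadd v4 (vadd (vneg R) W)
  set S := mask v5 v6
  have lW : W.length = n := length_vneg (length_mask l4 l3)
  have lY : Y.length = n := length_mask l7 l3
  have lE : E.length = n := length_vadd l3 (length_vadd (length_vneg lW) lY)
  have lR : R.length = n := length_mask l4 l7
  have lP : P.length = n := length_vadd l4 (length_vadd (length_vneg lR) lW)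
  have lS : S.length = n := length_mask l5 l6
  obtain ⟨⟨gW, gY, gE, gR, gP, gS, gF, gK, gL, gN⟩, hEW, hEY⟩ := hg
  have hsg : ∀ v : List ℤ, v.length = n → dot v v = 1 → Sg (comb v l) := fun v hv h =>
    Sg.of_iq (comb_gen v (orth_gen hl)) (by rw [iq_comb_comb hl v v hv, h])
  have cadd : ∀ a b : List ℤ, a.length = n → b.length = n →
      comb (vadd a b) l = comb a l + comb b l := fun a b ha hb => comb_add a b l (ha.trans hb.symm)
  refine ⟨comb W l, comb Y l, comb E l, comb R l, comb P l, comb S l,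
    comb (vadd S (vadd R (vadd E (vneg v5)))) l, comb (vadd S (vadd P (vadd Y (vneg v6)))) l,
    comb (vadd v1 (vadd R (vadd Y (vneg v7)))) l, comb (vadd v1 (vadd (vneg R) (vadd Y (vneg v8)))) l,
    hsg W lW gW, hsg Y lY gY, hsg E lE gE, hsg R lR gR, hsg P lP gP, hsg S lS gS, ?_, ?_, ?_, ?_,
    by rw [iq_comb_comb hl E W lW]; exact hEW, by rw [iq_comb_comb hl E Y lY]; exact hEY,
    ?_, ?_, ?_, ?_, ?_, ?_⟩
  · exact hsg _ (length_vadd lS (length_vadd lR (length_vadd lE (length_vneg l5)))) gF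
  · exact hsg _ (length_vadd lS (length_vadd lP (length_vadd lY (length_vneg l6)))) gK
  · exact hsg _ (length_vadd l1 (length_vadd lR (length_vadd lY (length_vneg l7)))) gL
  · exact hsg _ (length_vadd l1 (length_vadd (length_vneg lR) (length_vadd lY (length_vneg l8)))) gN
  · rw [cadd _ _ l3 (length_vadd (length_vneg lW) lY), cadd _ _ (length_vneg lW) lY, comb_vneg, s3]
    abel
  · rw [cadd _ _ l4 (length_vadd (length_vneg lR) lW), cadd _ _ (length_vneg lR) lW, comb_vneg, s4]
    abel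
  · rw [cadd _ _ lS (length_vadd lR (length_vadd lE (length_vneg l5))),
      cadd _ _ lR (length_vadd lE (length_vneg l5)), cadd _ _ lE (length_vneg l5), comb_vneg, s5]
    abel
  · rw [cadd _ _ lS (length_vadd lP (length_vadd lY (length_vneg l6))),
      cadd _ _ lP (length_vadd lY (length_vneg l6)), cadd _ _ lY (length_vneg l6), comb_vneg, s6]
    abel
  · rw [cadd _ _ l1 (length_vadd lR (length_vadd lY (length_vneg l7))),
      cadd _ _ lR (length_vadd lY (length_vneg l7)), cadd _ _ lY (length_vneg l7), comb_vneg, s7, s1]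
    abel
  · rw [cadd _ _ l1 (length_vadd (length_vneg lR) (length_vadd lY (length_vneg l8))),
      cadd _ _ (length_vneg lR) (length_vadd lY (length_vneg l8)),
      cadd _ _ lY (length_vneg l8), comb_vneg, comb_vneg, s8, s1]
    abel

/-- A signed irreducible of degree two with inner product one with the first function. -/
theorem Emb.exists_degree_two (e : Emb H φ) :
    ∃ E : G → ℂ, Sg E ∧ E 1 = 2 ∧ iq (Sv φ 0) E = 1 := by
  obtain ⟨W, Y, E, R, P, S, F, K, L, N, hW, hY, hE, hR, hP, hS, hF, hK, hL, hN, hEW, hEY,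
    e0, e1, e2, e3, e4, e5⟩ := e.constituents
  obtain ⟨hA2, hB2, hA, hB, -⟩ := inv_spec
  have hone : (1 : G) * 1 = 1 := mul_one 1
  have hu : Sg (fun _ : G => (1 : ℂ)) := Sg.of_irr ⟨_, isIrrCharacter_one⟩
  have hvals : ∀ g : G, g * g = 1 → W g = P g + R g ∧ Y g = E g + (P g + R g) ∧
      F g = S g + R g + E g ∧ K g = S g + P g + (E g + (P g + R g)) ∧
      L g = 1 + R g + (E g + (P g + R g)) ∧ N g = 1 + -R g + (E g + (P g + R g)) := by
    intro g hg
    have z : ∀ m, Sv φ m g = 0 := fun m => Sv_inner e m hg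
    have a0 := z 0
    have a1 := z 1
    have a2 := z 2
    have a3 := z 3
    have a4 := z 4
    have a5 := z 5
    rw [e0] at a0
    rw [e1] at a1
    rw [e2] at a2
    rw [e3] at a3
    rw [e4] at a4
    rw [e5] at a5
    simp only [Pi.add_apply, Pi.sub_apply] at a0 a1 a2 a3 a4 a5
    refine ⟨by linear_combination -a1, by linear_combination -a0 - a1, by linear_combination -a2,
      by linear_combination -a3 - a0 - a1, by linear_combination -a4 - a0 - a1,
      by linear_combination -a5 - a0 - a1⟩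
  obtain ⟨d1, d2, d3, d4, d5, d6⟩ := hvals 1 hone
  have nd : Nondeg ⟨E 1, P 1, R 1, S 1⟩ :=
    ⟨hE.apply_one_ne, hP.apply_one_ne, hR.apply_one_ne, hS.apply_one_ne, d1 ▸ hW.apply_one_ne,
      d2 ▸ hY.apply_one_ne, d3 ▸ hF.apply_one_ne, d4 ▸ hK.apply_one_ne, d5 ▸ hL.apply_one_ne,
      d6 ▸ hN.apply_one_ne⟩
  have hel : ∀ a : M, a = invA ∨ a = invB → e.el a * e.el a = 1 := by
    intro a ha
    rw [← e.el_mul, show a * a = 1 by rcases ha with rfl | rfl <;> assumption]
    simp [Emb.el]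
  have heq : ∀ a b : M, a = invA ∨ a = invB → b = invA ∨ b = invB → ∀ m : Fin 6,
      forms ⟨E 1, P 1, R 1, S 1⟩ ⟨E (e.el a), P (e.el a), R (e.el a), S (e.el a)⟩
        ⟨E (e.el b), P (e.el b), R (e.el b), S (e.el b)⟩ m = qfun2 (e.el a) (e.el b) (Sv φ m) := by
    intro a b ha hb m
    obtain ⟨x1, x2, x3, x4, x5, x6⟩ := hvals _ (hel a ha)
    obtain ⟨y1, y2, y3, y4, y5, y6⟩ := hvals _ (hel b hb)
    fin_cases m <;> simp only [forms, Fin.zero_eta, Fin.mk_one, Fin.reduceFinMk]
    · rw [e0, qfun2_sub, qfun2_add, qfun2_sg _ _ hE, qfun2_sg _ _ hW, qfun2_sg _ _ hY, bl2,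
        ← x2, ← y2, ← d2, ← x1, ← y1, ← d1]
    · rw [e1, qfun2_sub, qfun2_add, qfun2_sg _ _ hP, qfun2_sg _ _ hR, qfun2_sg _ _ hW, bl2,
        ← x1, ← y1, ← d1]
    · rw [e2, qfun2_sub, qfun2_add, qfun2_add, qfun2_sg _ _ hS, qfun2_sg _ _ hR, qfun2_sg _ _ hE,
        qfun2_sg _ _ hF, bl3, ← x3, ← y3, ← d3]
    · rw [e3, qfun2_sub, qfun2_add, qfun2_add, qfun2_sg _ _ hS, qfun2_sg _ _ hP, qfun2_sg _ _ hY,
        qfun2_sg _ _ hK, bl3, ← x4, ← y4, ← d4, x2, y2, d2]
    · rw [e4, qfun2_sub, qfun2_add, qfun2_add, qfun2_sg _ _ hu, qfun2_sg _ _ hR, qfun2_sg _ _ hY,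
        qfun2_sg _ _ hL, bl3, ← x5, ← y5, ← d5, x2, y2, d2]
    · rw [e5, qfun2_sub, qfun2_add, qfun2_sub, qfun2_sg _ _ hu, qfun2_sg _ _ hR, qfun2_sg _ _ hY,
        qfun2_sg _ _ hN, bl3, ← x6, ← y6, ← d6, x2, y2, d2]
      ring
  have hrhs : ∀ (t : Fin 3) (m : Fin 6), rhs t m = (rhsM.getD t.val []).getD m.val 0 := by decide
  refine ⟨E, hE, degree_two (x := ⟨E (e.el invA), P (e.el invA), R (e.el invA), S (e.el invA)⟩)
    (y := ⟨E (e.el invB), P (e.el invB), R (e.el invB), S (e.el invB)⟩) nd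
    (kConst_ne H (e.el invA) (e.el invA))
    (kConst_ne H (e.el invB) (e.el invB)) (kConst_sq H (e.el invA) (e.el invB))
    (fun m => ?_) (fun m => ?_) (fun m => ?_), ?_⟩
  · rw [heq invA invA (Or.inl rfl) (Or.inl rfl), e.qfun2_Sv invA invA (Or.inl rfl) (Or.inl rfl) m _
      (by rw [hA]; exact pair_aa m), hrhs 0 m]
    rfl
  · rw [heq invA invB (Or.inl rfl) (Or.inr rfl), e.qfun2_Sv invA invB (Or.inl rfl) (Or.inr rfl) m _
      (by rw [hA, hB]; exact pair_ab m), hrhs 1 m]
    rfl
  · rw [heq invB invB (Or.inr rfl) (Or.inr rfl), e.qfun2_Sv invB invB (Or.inr rfl) (Or.inr rfl) m _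
      (by rw [hB]; exact pair_bb m), hrhs 2 m]
    rfl
  · rw [e0, iq_sub_left (isGeneralizedCharacter_add hE.gen hW.gen) hY.gen hE.gen,
      iq_add_left hE.gen hW.gen hE.gen, hE.iq_self, iq_comm hW.gen hE.gen, hEW,
      iq_comm hY.gen hE.gen, hEY]
    rfl

end CfsgLib.Char.ThreeSFour
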