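import Cfsg.Agent.Lib.Char.ThreeSFour.Chars
import Mathlib.GroupTheory.Sylow

/-!
# An embedded `3³:S₄` with centralizers of the 3-core inside: fusion and induced functions
-/

set_option autoImplicit false
set_option linter.unusedSectionVars false

namespace CfsgLib.Char.ThreeSFour

open scoped ComplexConjugate
open Cfsg CfsgLib.Char CfsgLib.Char.Signed

universe u

variable {G : Type u} [Group G] [Finite G]

theorem eq_mk_of_InJ {x : M} (h : InJ x) : x = ⟨x.v, 0⟩ ∧ x.v ≠ 0 := by
  obtain ⟨v, s⟩ := x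
  obtain ⟨rfl, h1⟩ : s = 0 ∧ _ := h
  exact ⟨rfl, fun e => h1 (by rw [show v = 0 from e]; rfl)⟩

theorem InJ.conj {x : M} (h : InJ x) (y : M) : InJ (y * x * y⁻¹) := by
  refine ⟨?_, fun e => h.2 (by
    rw [show x = y⁻¹ * (y * x * y⁻¹) * y by group, e]; group)⟩
  rw [(eq_mk_of_InJ h).1]
  exact J_normal y.v y.s x.v

theorem InJ.inv {x : M} (h : InJ x) : InJ x⁻¹ := by
  refine ⟨?_, fun e => h.2 (inv_eq_one.1 e)⟩
  have hc : x⁻¹ = x * x := by
    refine inv_eq_of_mul_eq_one_right ?_
    rw [(eq_mk_of_InJ h).1, ← mul_assoc]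
    exact J_cube x.v
  rw [hc, (eq_mk_of_InJ h).1]
  exact J_mul x.v x.v

theorem InJ.mul_self {x : M} (h : InJ x) : InJ (x * x) := by
  have e : x⁻¹ = x * x := by
    refine inv_eq_of_mul_eq_one_right ?_
    rw [(eq_mk_of_InJ h).1, ← mul_assoc]
    exact J_cube x.v
  exact e ▸ h.inv

theorem InJ.cls_eq_of_card {x y : M} (hx : InJ x) (hy : InJ y) (h : cCard x = cCard y) :
    clsOf x = clsOf y := by
  obtain ⟨ex, hvx⟩ := eq_mk_of_InJ hx
  obtain ⟨ey, hvy⟩ := eq_mk_of_InJ hy
  rw [ex, ey, cCard_eq _ hvx, cCard_eq _ hvy] at h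
  rw [ex, ey]
  rcases J_cls _ hvx with a | a | a <;> rcases J_cls _ hvy with b | b | b <;>
    simp only [a, b] at h ⊢ <;> simp at h ⊢

/-- The hypotheses. -/
structure Emb (H : Subgroup G) (φ : H ≃* M) : Prop where
  cent : ∀ h : H, InJ (φ h) → Subgroup.centralizer ({(h : G)} : Set G) ≤ H
  closed : ∀ h : H, InJ (φ h) → ∀ g : G, ∀ hg : g * h * g⁻¹ ∈ H, InJ (φ ⟨g * h * g⁻¹, hg⟩)

variable {H : Subgroup G} {φ : H ≃* M}

theorem Emb.mem_of_conj (e : Emb H φ) {g : G} {j j' : H} (hj : InJ (φ j)) (hj' : InJ (φ j'))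
    (h : g * j * g⁻¹ = (j' : G)) : g ∈ H := by
  classical
  have hcard : cCard (φ j) = cCard (φ j') := by
    have hset : ∀ x : H, cCard (φ x) = Nat.card {y : H // y * x = x * y} := by
      intro x
      rw [cCard, ← Nat.card_eq_finsetCard]
      refine Nat.card_congr ((Equiv.subtypeEquiv φ.toEquiv fun y => ?_).symm.trans
        (Equiv.refl _))
      simp only [Finset.mem_filter, Finset.mem_univ, true_and, MulEquiv.toEquiv_eq_coe,
        EquivLike.coe_coe, ← map_mul, EmbeddingLike.apply_eq_iff_eq]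
    rw [hset, hset]
    have hto : ∀ y : H, y * j = j * y → g * y * g⁻¹ ∈ H ∧
        g * y * g⁻¹ * j' = j' * (g * y * g⁻¹) := by
      intro y hy
      have hc : g * y * g⁻¹ * j' = j' * (g * y * g⁻¹) := by
        have hy' : (y : G) * j = j * y := congrArg Subtype.val hy
        rw [← h, show g * y * g⁻¹ * (g * j * g⁻¹) = g * (y * j) * g⁻¹ by group, hy']
        group
      exact ⟨e.cent j' hj' (Subgroup.mem_centralizer_singleton_iff.2 hc), hc⟩
    have hback : ∀ y : H, y * j' = j' * y → g⁻¹ * y * g ∈ H ∧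
        g⁻¹ * y * g * j = j * (g⁻¹ * y * g) := by
      intro y hy
      have hc : g⁻¹ * y * g * j = j * (g⁻¹ * y * g) := by
        have hy' : (y : G) * j' = j' * y := congrArg Subtype.val hy
        have hj0 : (j : G) = g⁻¹ * j' * g := by rw [← h]; group
        rw [hj0, show g⁻¹ * y * g * (g⁻¹ * j' * g) = g⁻¹ * (y * j') * g by group, hy']
        group
      exact ⟨e.cent j hj (Subgroup.mem_centralizer_singleton_iff.2 hc), hc⟩
    exact Nat.card_congr
      { toFun := fun y => ⟨⟨_, (hto y.1 y.2).1⟩, Subtype.ext (hto y.1 y.2).2⟩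
        invFun := fun y => ⟨⟨_, (hback y.1 y.2).1⟩, Subtype.ext (hback y.1 y.2).2⟩
        left_inv := fun y => Subtype.ext (Subtype.ext
          (show g⁻¹ * (g * (y.1 : G) * g⁻¹) * g = y.1 by group))
        right_inv := fun y => Subtype.ext (Subtype.ext
          (show g * (g⁻¹ * (y.1 : G) * g) * g⁻¹ = y.1 by group)) }
  obtain ⟨w, hw⟩ := clsOf_eq_imp (hj.cls_eq_of_card hj' hcard)
  set k := φ.symm w with hk
  have hkj : (k : G) * j * (k : G)⁻¹ = j' := by
    have : k * j * k⁻¹ = j' := φ.injective (by simp [hk, hw])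
    exact congrArg Subtype.val this
  have hc : (k : G)⁻¹ * g ∈ H := e.cent j hj (Subgroup.mem_centralizer_singleton_iff.2 (by
    have e2 : g * j * g⁻¹ = (k : G) * j * (k : G)⁻¹ := h.trans hkj.symm
    calc (k : G)⁻¹ * g * j = (k : G)⁻¹ * (g * j * g⁻¹) * g := by group
      _ = j * ((k : G)⁻¹ * g) := by rw [e2]; group))
  simpa using H.mul_mem k.2 hc

/-- The power of an element in the core. -/
theorem Emb.pow_InJ (_e : Emb H φ) {x : H} (hx : 4 < (clsOf (φ x)).val) :
    InJ (φ (x ^ expo (clsOf (φ x)))) := by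
  obtain ⟨w, hw⟩ := exists_conj_rep (φ x)
  rw [map_pow]
  conv => arg 1; arg 1; rw [← hw]
  rw [conj_pow]
  exact (pow_mem_J _ hx).conj w

theorem Emb.mem_of_conj_supp (e : Emb H φ) {g : G} {x x' : H} (hx : 4 < (clsOf (φ x)).val)
    (h : g * x * g⁻¹ = (x' : G)) : g ∈ H := by
  set k := expo (clsOf (φ x))
  have hk : g * ((x ^ k : H) : G) * g⁻¹ = ((x' ^ k : H) : G) := by
    rw [Subgroup.coe_pow, Subgroup.coe_pow, ← h, conj_pow]
  have hm : g * ((x ^ k : H) : G) * g⁻¹ ∈ H := hk ▸ (x' ^ k).2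
  have hj := e.closed _ (e.pow_InJ hx) g hm
  exact e.mem_of_conj (e.pow_InJ hx) hj rfl

theorem Emb.mem_of_inverted (e : Emb H φ) {y : G} {x : H} (hx : 4 < (clsOf (φ x)).val)
    (h : y * x * y⁻¹ = (x : G)⁻¹) : y ∈ H :=
  e.mem_of_conj_supp (x' := x⁻¹) hx (by simpa using h)

/-! ### The involutions -/

/-- An element of `H` for an element of the model. -/
noncomputable def Emb.el (_e : Emb H φ) (m : M) : G := ((φ.symm m : H) : G)

theorem Emb.el_mul (e : Emb H φ) (a b : M) : e.el (a * b) = e.el a * e.el b := by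
  simp [Emb.el]

theorem Emb.not_conj (e : Emb H φ) : ¬ IsConj (e.el invA) (e.el invB) := by
  intro hc
  obtain ⟨g, hg⟩ := isConj_iff.1 hc
  obtain ⟨-, -, hA, hB, huA, huB, hcA, hcB, h3A, h3B⟩ := inv_spec
  have : Fact (Nat.Prime 3) := ⟨Nat.prime_three⟩
  set b := e.el invB with hb
  set C := Subgroup.centralizer ({b} : Set G) with hC
  set u := e.el uB with hu
  set u' := g * e.el uA * g⁻¹ with hu'
  have hmem : ∀ {m m' : M}, m * m' = m' * m → e.el m * e.el m' = e.el m' * e.el m := fun {m m'} h => by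
    rw [← e.el_mul, ← e.el_mul, h]
  have hpow3 : ∀ {m : M}, m * m * m = 1 → e.el m ^ 3 = 1 := fun {m} h => by
    rw [pow_three, ← mul_assoc, ← e.el_mul, ← e.el_mul, h]
    simp [Emb.el]
  have huC : u ∈ C := Subgroup.mem_centralizer_singleton_iff.2 (hmem hcB)
  have hu'C : u' ∈ C := by
    refine Subgroup.mem_centralizer_singleton_iff.2 ?_
    rw [hu', ← hg, show g * e.el uA * g⁻¹ * (g * e.el invA * g⁻¹) =
      g * (e.el uA * e.el invA) * g⁻¹ by group, hmem hcA]
    group
  have hp : ∀ {w : C}, w ^ 3 = 1 → IsPGroup 3 (Subgroup.zpowers w) := fun {w} hw z => by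
    obtain ⟨z, i, rfl⟩ := z
    exact ⟨1, Subtype.ext (by
      simp only [Subgroup.coe_pow, pow_one, OneMemClass.coe_one]
      rw [← zpow_natCast (w ^ i) 3, ← zpow_mul, mul_comm i, zpow_mul, zpow_natCast, hw, one_zpow])⟩
  have h3u : (⟨u, huC⟩ : C) ^ 3 = 1 := Subtype.ext (hpow3 h3B)
  have h3u' : (⟨u', hu'C⟩ : C) ^ 3 = 1 := Subtype.ext (by
    simp only [Subgroup.coe_pow, hu', conj_pow, hpow3 h3A, OneMemClass.coe_one]
    group)
  obtain ⟨S, hS⟩ := (hp h3u).exists_le_sylow
  obtain ⟨S', hS'⟩ := (hp h3u').exists_le_sylow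
  have huS : (⟨u, huC⟩ : C) ∈ (S : Subgroup C) := hS (Subgroup.mem_zpowers _)
  have hu'S : (⟨u', hu'C⟩ : C) ∈ (S' : Subgroup C) := hS' (Subgroup.mem_zpowers _)
  have hJu : InJ (φ ⟨u, (φ.symm uB).2⟩) := by
    show InJ (φ (φ.symm uB))
    rw [φ.apply_symm_apply]; exact huB
  -- members of a 3-subgroup commuting with `u`
  have hinH : ∀ z : C, z ∈ (S : Subgroup C) → (z : G) * u = u * z →
      (z : G) = 1 ∨ (z : G) = u ∨ (z : G) = u * u := by
    intro z hz hzu
    have hzH : (z : G) ∈ H := e.cent _ hJu (Subgroup.mem_centralizer_singleton_iff.2 hzu)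
    set m := φ ⟨z, hzH⟩ with hm
    have hzm : (z : G) = e.el m := by simp [Emb.el, hm]
    have inj : ∀ {a c : M}, e.el a = e.el c → a = c := fun {a c} h =>
      φ.symm.injective (Subtype.ext h)
    have hcb : m * invB = invB * m := inj (by
      rw [e.el_mul, e.el_mul, ← hzm]
      exact Subgroup.mem_centralizer_singleton_iff.1 z.2)
    have hcu : m * uB = uB * m := inj (by rw [e.el_mul, e.el_mul, ← hzm]; exact hzu)
    have h81 : m ^ 81 = 1 := by
      obtain ⟨n, hn⟩ := S.isPGroup' ⟨z, hz⟩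
      have hzn : z ^ (3 ^ n) = 1 := by simpa using congrArg Subtype.val hn
      have h1 : m ^ (3 ^ n) = 1 := by
        rw [hm, ← map_pow, map_eq_one_iff φ φ.injective]
        exact Subtype.ext (by simpa using congrArg Subtype.val hzn)
      have h2 : m ^ 648 = 1 := by rw [← card_M]; exact pow_card_eq_one
      obtain ⟨i, hi, hi'⟩ := (Nat.dvd_prime_pow Nat.prime_three).1 (orderOf_dvd_of_pow_eq_one h1)
      have h3 := orderOf_dvd_of_pow_eq_one h2
      rw [hi'] at h3
      refine orderOf_dvd_iff_pow_eq_one.1 ?_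
      rw [hi', show 81 = 3 ^ 4 from rfl]
      refine Nat.pow_dvd_pow 3 ?_
      by_contra hlt
      exact absurd ((pow_dvd_pow 3 (show 5 ≤ i by omega)).trans h3) (by norm_num)
    rcases forall_m (P := fun m => m * invB = invB * m → m * uB = uB * m → m ^ 81 = 1 →
      m = 1 ∨ m = uB ∨ m = uB * uB) three_B m hcb hcu h81 with h | h | h
    · exact Or.inl (by rw [hzm, h]; simp [Emb.el])
    · exact Or.inr (Or.inl (by rw [hzm, h]))
    · exact Or.inr (Or.inr (by rw [hzm, h, e.el_mul]))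
  -- `S` consists of the powers of `u`
  have hu1 : u ≠ 1 := fun h => huB.2 (φ.symm.injective (Subtype.ext (by simpa [hu, Emb.el] using h)))
  have hSnt : Nontrivial (S : Subgroup C) :=
    ⟨⟨⟨_, huS⟩, 1, fun h => hu1 (congrArg (fun z : (S : Subgroup C) => ((z : C) : G)) h)⟩⟩
  obtain ⟨z, hz, hz1⟩ := (Subgroup.nontrivial_iff_exists_ne_one _).1 S.isPGroup'.center_nontrivial
  have hzc : ∀ y : (S : Subgroup C), ((y : C) : G) * ((z : C) : G) = ((z : C) : G) * ((y : C) : G) :=
    fun y => congrArg (fun t : (S : Subgroup C) => ((t : C) : G)) (Subgroup.mem_center_iff.1 hz y)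
  have hall : ∀ y : C, y ∈ (S : Subgroup C) → (y : G) = 1 ∨ (y : G) = u ∨ (y : G) = u * u := by
    intro y hy
    have hzu := hinH z z.2 (hzc ⟨_, huS⟩).symm
    refine hinH y hy ?_
    have hyz := hzc ⟨y, hy⟩
    simp only at hyz
    rcases hzu with h | h | h
    · exact absurd (Subtype.ext (Subtype.ext h)) hz1
    · rwa [h] at hyz
    · have h4 : u * u * (u * u) = u := by
        have : u * (u * u) = 1 := by
          have := hpow3 h3B
          rwa [pow_three] at this
        rw [show u * u * (u * u) = u * (u * u) * u by group, this, one_mul]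
      rw [h] at hyz
      calc (y : G) * u = y * (u * u) * (u * u) := by rw [mul_assoc, h4]
        _ = u * u * y * (u * u) := by rw [hyz]
        _ = u * u * (u * u * y) := by rw [mul_assoc, hyz]
        _ = u * y := by rw [← mul_assoc, h4]
  -- move `u'` into `S`
  obtain ⟨c, hc'⟩ := MulAction.exists_smul_eq C S' S
  have hcu : c * ⟨u', hu'C⟩ * c⁻¹ ∈ (S : Subgroup C) := by
    rw [← hc', Sylow.coe_subgroup_smul]
    exact ⟨_, hu'S, rfl⟩
  have hu'1 : u' ≠ 1 := by
    intro h
    refine huA.2 (φ.symm.injective (Subtype.ext ?_))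
    have : e.el uA = g⁻¹ * u' * g := by rw [hu']; group
    rw [h] at this
    simpa [Emb.el] using this
  have hcg : ((c : G) * g) * ((φ.symm uA : H) : G) * ((c : G) * g)⁻¹ =
      ((c * ⟨u', hu'C⟩ * c⁻¹ : C) : G) := by
    simp only [hu', Emb.el, Subgroup.coe_mul, Subgroup.coe_inv]
    group
  have hgH : (c : G) * g ∈ H := by
    rcases hall _ hcu with h | h | h
    · refine absurd ?_ hu'1
      simp only [Subgroup.coe_mul, Subgroup.coe_inv] at h
      exact (conj_eq_one_iff).1 h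
    · exact e.mem_of_conj (j := φ.symm uA) (j' := φ.symm uB) (by simpa using huA) (by simpa using huB)
        (hcg.trans h)
    · exact e.mem_of_conj (j := φ.symm uA) (j' := φ.symm (uB * uB)) (by simpa using huA)
        (by simpa using huB.mul_self) (hcg.trans (h.trans (e.el_mul uB uB).symm))
  have hfin : clsOf invB = clsOf invA := by
    have e1 : (⟨_, hgH⟩ : H) * φ.symm invA * (⟨_, hgH⟩ : H)⁻¹ = φ.symm invB := by
      refine Subtype.ext ?_
      have hcb : (c : G) * b = b * c := Subgroup.mem_centralizer_singleton_iff.1 c.2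
      show (c : G) * g * e.el invA * ((c : G) * g)⁻¹ = b
      rw [show (c : G) * g * e.el invA * ((c : G) * g)⁻¹ = (c : G) * (g * e.el invA * g⁻¹) * (c : G)⁻¹ by
        group, hg, hcb, mul_inv_cancel_right]
    have e2 := congrArg (fun t : H => clsOf (φ t)) e1
    simpa [clsOf_conj] using e2.symm
  rw [hA, hB] at hfin
  exact absurd hfin (by decide)

end CfsgLib.Char.ThreeSFour
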