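import Cfsg.Agent.Lib.Char.ThreeSFour.Constituents
import Cfsg.Agent.Lib.Char.ThreeFourFinal
import Cfsg.Agent.Lib.Invol.PrincipalBlock
import Cfsg.Agent.Lib.Coprime.Core

/-!
# A subgroup `3³:S₄` with strongly closed 3-core and centralizers inside is the whole group
-/

set_option autoImplicit false
set_option linter.unusedSectionVars false

namespace CfsgLib.Char.ThreeSFour

open scoped ComplexConjugate
open Cfsg CfsgLib.Char CfsgLib.Char.Signed

universe u

variable {G : Type u} [Group G] [Finite G]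

theorem chi_irr (k : Fin 14) (hpos : 0 < (chi k 1).re) : IsIrrCharacter M (chi k) := by
  refine isIrr_of_norm_one (isGeneralizedCharacter_of_isCharacter (chi_isCharacter k)) ?_ hpos
  rw [chi_eq, classInner_clFun, tbl_norm, ev_int]
  norm_num

theorem chi_degrees : chi 4 1 = 2 ∧ chi 6 1 = 6 ∧ chi 12 1 = 8 := by
  have h := tbl_deg
  simp only [Prod.mk.injEq] at h
  refine ⟨?_, ?_, ?_⟩
  · rw [chi_apply, cls_one, h.1, ev_int]; norm_num
  · rw [chi_apply, cls_one, h.2.1, ev_int]; norm_num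
  · rw [chi_apply, cls_one, h.2.2, ev_int]; norm_num

/-- A character of degree two with inner product one with `2 + 6 - 8` is the character of degree two. -/
theorem deg_two_eq (f : M → ℂ) (hf : IsCharacter M f) (h1 : f 1 = 2)
    (hin : classInner f (sfun 0) = 1) : f = chi 4 := by
  classical
  have : Fintype (IrrCharacter M) := Fintype.ofFinite _
  obtain ⟨e4, e6, e12⟩ := chi_degrees
  let p4 : IrrCharacter M := ⟨chi 4, chi_irr 4 (by rw [e4]; norm_num)⟩
  let p6 : IrrCharacter M := ⟨chi 6, chi_irr 6 (by rw [e6]; norm_num)⟩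
  let p12 : IrrCharacter M := ⟨chi 12, chi_irr 12 (by rw [e12]; norm_num)⟩
  choose m hm using classInner_char_irr_nat hf
  choose d hd hde using fun ψ : IrrCharacter M => isIrrCharacter_degree ψ.2
  have hexp : f = ∑ ψ : IrrCharacter M, (m ψ : ℂ) • (ψ : M → ℂ) := by
    conv_lhs => rw [classFun_expand (isClassFunction_of_isGeneralized
      (isGeneralizedCharacter_of_isCharacter hf))]
    simp only [hm]
  have hsum : ∑ ψ : IrrCharacter M, m ψ * d ψ = 2 := by
    have h := congrFun hexp 1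
    simp only [Finset.sum_apply, Pi.smul_apply, smul_eq_mul, hde, h1] at h
    exact_mod_cast h.symm
  have hle : ∀ ψ, m ψ * d ψ ≤ 2 := fun ψ =>
    hsum ▸ Finset.single_le_sum (f := fun ψ => m ψ * d ψ) (fun _ _ => Nat.zero_le _)
      (Finset.mem_univ ψ)
  have d4 : d p4 = 2 := by exact_mod_cast (hde p4).symm.trans e4
  have d6 : d p6 = 6 := by exact_mod_cast (hde p6).symm.trans e6
  have d12 : d p12 = 8 := by exact_mod_cast (hde p12).symm.trans e12
  have z6 : m p6 = 0 := by have := hle p6; rw [d6] at this; omega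
  have z12 : m p12 = 0 := by have := hle p12; rw [d12] at this; omega
  have hs : sfun 0 = chi 4 + chi 6 - chi 12 := by
    funext x
    simp only [sfun, clFun, sval_three, map_add, ev_psmul, Pi.add_apply, Pi.sub_apply, chi_apply]
    push_cast
    ring
  have z4 : m p4 = 1 := by
    rw [hs, classInner_sub_right, classInner_add_right, show chi 4 = (p4 : M → ℂ) from rfl,
      show chi 6 = (p6 : M → ℂ) from rfl, show chi 12 = (p12 : M → ℂ) from rfl, hm, hm, hm, z6, z12]
      at hin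
    simpa using hin
  have hothers : ∀ ψ, ψ ≠ p4 → m ψ = 0 := by
    intro ψ hψ
    have h := Finset.add_sum_erase Finset.univ (fun ψ => m ψ * d ψ) (Finset.mem_univ p4)
    simp only [hsum, z4, d4] at h
    have h0 : ∑ x ∈ Finset.univ.erase p4, m x * d x = 0 := by omega
    have := (Finset.sum_eq_zero_iff.1 h0) ψ (by simp [hψ])
    exact (Nat.mul_eq_zero.1 this).resolve_right (hd ψ).ne'
  rw [hexp, Finset.sum_eq_single p4 (fun ψ _ hψ => by simp [hothers ψ hψ])
    (fun h => absurd (Finset.mem_univ p4) h), z4, Nat.cast_one, one_smul]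

theorem tbl_four_real : ∀ c, (tbl 4 c).2 = 0 := by decide +kernel

theorem chi_four_eq_two (x : M) : chi 4 x = 2 ↔ tbl 4 (clsOf x) = (2, 0) := by
  rw [chi_apply, show tbl 4 (clsOf x) = ((tbl 4 (clsOf x)).1, 0) from
    Prod.ext rfl (tbl_four_real _), ev_int]
  simp only [Prod.mk.injEq, and_true]
  exact ⟨fun h => by exact_mod_cast h, fun h => by rw [h]; norm_num⟩

theorem J_in_ker : ∀ w : Fin 27, tbl 4 (clsOf ⟨w, 0⟩) = (2, 0) := by decide +kernel

variable {H : Subgroup G} {φ : H ≃* M}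

theorem Emb.eq_top (e : Emb H φ) : H = ⊤ := by
  classical
  have := Fintype.ofFinite G
  have := Fintype.ofFinite H
  obtain ⟨E, hE, hE1, hin⟩ := e.exists_degree_two
  obtain ⟨χ, ε, hε, hEχ⟩ := hE.exists_irr
  obtain ⟨d, hd, hdd⟩ := isIrrCharacter_degree χ.2
  rcases hε with rfl | rfl
  swap
  · exfalso
    rw [hEχ, Pi.smul_apply, smul_eq_mul, hdd] at hE1
    have : (-1 : ℤ) * (d : ℤ) = 2 := by exact_mod_cast hE1
    omega
  rw [Int.cast_one, one_smul] at hEχ
  subst hEχ
  -- the restriction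
  set f : M → ℂ := fun m => (χ : G → ℂ) ((φ.symm m : H) : G) with hf
  have hfc : IsCharacter M f :=
    isCharacter_comp (isCharacter_irr χ) (H.subtype.comp φ.symm.toMonoidHom)
  have hf1 : f 1 = 2 := by simp [hf, hE1]
  have hfin : classInner f (sfun 0) = 1 := by
    have h1 : classInner (Sv φ 0) (χ : G → ℂ) = 1 := by
      have hsg : IsGeneralizedCharacter M (sfun 0) := by
        rw [sfun_eq]
        exact isGeneralizedCharacter_sum _ _ fun i _ => isGeneralizedCharacter_zsmul (vfun_gen i) _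
      have hg : IsGeneralizedCharacter H (pullM φ (sfun 0)) :=
        isGeneralizedCharacter_comp hsg φ.toMonoidHom
      rw [iq_spec (show Gen (Sv φ 0) from isGeneralizedCharacter_indFun H hg) hE.gen, hin,
        Int.cast_one]
    rw [Sv, classInner_indFun H _ _ (isClassFunction_irr χ)] at h1
    have h2 := congrArg conj h1
    rw [classInner_conj, map_one] at h2
    rw [← classInner_pullM φ, ← h2]
    congr 1
    funext x
    simp [pullM, hf]
  have hres := deg_two_eq f hfc hf1 hfin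
  obtain ⟨N, hN, hNmem⟩ := CfsgLib.Invol.exists_charKernel χ
  have hNH : ∀ h : H, (h : G) ∈ N ↔ tbl 4 (clsOf (φ h)) = (2, 0) := by
    intro h
    rw [hNmem, hE1, ← chi_four_eq_two, ← hres]
    simp [hf]
  -- the intersection is the group of order 108
  let K := H.subgroupOf N
  let ι : K →* Equiv.Perm (Fin 9) :=
    { toFun := fun k => perm (φ ⟨((k : N) : G), Subgroup.mem_subgroupOf.1 k.2⟩)
      map_one' := by
        rw [show (⟨(((1 : K) : N) : G), _⟩ : H) = 1 from Subtype.ext rfl, map_one, map_one]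
      map_mul' := fun a b => by
        rw [← map_mul, ← map_mul]
        rfl }
  have hι : Function.Injective ι := fun a b h => by
    have := φ.injective (perm_injective h)
    exact Subtype.ext (Subtype.ext (congrArg (fun t : H => (t : G)) this))
  have hrange : ι.range = ThreeFour.evSub.map ThreeFour.perm9 := by
    ext π
    constructor
    · rintro ⟨k, rfl⟩
      set x := φ ⟨((k : N) : G), Subgroup.mem_subgroupOf.1 k.2⟩ with hx
      have hxk : tbl 4 (clsOf x) = (2, 0) := (hNH _).1 (k : N).2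
      obtain ⟨h1, h2⟩ := forall_m (P := fun x => tbl 4 (clsOf x) = (2, 0) →
        ThreeFour.Ev (toAmb x) ∧ ∀ p, mPt x p = ThreeFour.blockMap 0 (toAmb x).1
          (ThreeFour.blockMap 1 (toAmb x).2.1 (ThreeFour.blockMap 2 (toAmb x).2.2 p))) ker_fwd x hxk
      refine ⟨toAmb x, h1, Equiv.ext fun p => ?_⟩
      rw [ThreeFour.perm9_apply]
      exact (h2 p).symm
    · rintro ⟨a, ha, rfl⟩
      obtain ⟨h1, h2⟩ := ker_bwd a ha
      have hmemN : ((φ.symm (ofAmb a) : H) : G) ∈ N := (hNH _).2 (by rwa [φ.apply_symm_apply])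
      refine ⟨⟨⟨_, hmemN⟩, Subgroup.mem_subgroupOf.2 (φ.symm (ofAmb a)).2⟩, Equiv.ext fun p => ?_⟩
      rw [ThreeFour.perm9_apply, ← h2 p, ← perm_apply]
      show perm (φ (φ.symm (ofAmb a))) p = _
      rw [φ.apply_symm_apply]
  let eK : K ≃* ThreeFour.evSub.map ThreeFour.perm9 :=
    (MonoidHom.ofInjective hι).trans (MulEquiv.subgroupCongr hrange)
  -- the core
  have hJN : ∀ w : Fin 27, ((φ.symm ⟨w, 0⟩ : H) : G) ∈ N := fun w =>
    (hNH _).2 (by rw [φ.apply_symm_apply]; exact J_in_ker w)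
  let T : Subgroup N :=
    { carrier := {n | ∃ hn : (n : G) ∈ H, (φ ⟨n, hn⟩).s = 0}
      one_mem' := ⟨H.one_mem, by rw [show (⟨((1 : N) : G), _⟩ : H) = 1 from rfl, map_one]; rfl⟩
      mul_mem' := by
        rintro a b ⟨ha, ha'⟩ ⟨hb, hb'⟩
        refine ⟨H.mul_mem ha hb, ?_⟩
        rw [show (⟨((a * b : N) : G), _⟩ : H) = ⟨a, ha⟩ * ⟨b, hb⟩ from rfl, map_mul]
        generalize φ ⟨a, ha⟩ = x at ha' ⊢
        generalize φ ⟨b, hb⟩ = y at hb' ⊢
        obtain ⟨v, s⟩ := x
        obtain ⟨v', s'⟩ := y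
        obtain rfl : s = 0 := ha'
        obtain rfl : s' = 0 := hb'
        exact J_mul v v'
      inv_mem' := by
        rintro a ⟨ha, ha'⟩
        refine ⟨H.inv_mem ha, ?_⟩
        rw [show (⟨((a⁻¹ : N) : G), _⟩ : H) = (⟨a, ha⟩ : H)⁻¹ from rfl, map_inv]
        by_cases h1 : φ ⟨a, ha⟩ = 1
        · rw [h1, inv_one]; rfl
        · exact (InJ.inv ⟨ha', h1⟩).1 }
  have hTK : T ≤ K := fun n ⟨hn, _⟩ => Subgroup.mem_subgroupOf.2 hn
  have hTcard : Nat.card T = 27 := by
    rw [show 27 = Nat.card (Fin 27) by simp]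
    refine Nat.card_congr
      { toFun := fun n => (φ ⟨((n : N) : G), n.2.1⟩).v
        invFun := fun w => ⟨⟨_, hJN w⟩, (φ.symm ⟨w, 0⟩).2, by
          show (φ (φ.symm ⟨w, 0⟩)).s = 0
          rw [φ.apply_symm_apply]⟩
        left_inv := fun n => ?_
        right_inv := fun w => ?_ }
    · obtain ⟨⟨n, hnN⟩, hn, hns⟩ := n
      refine Subtype.ext (Subtype.ext ?_)
      have : (⟨(φ ⟨n, hn⟩).v, 0⟩ : M) = φ ⟨n, hn⟩ := by
        generalize φ ⟨n, hn⟩ = x at hns ⊢
        obtain ⟨v, s⟩ := x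
        obtain rfl : s = 0 := hns
        rfl
      show ((φ.symm ⟨(φ ⟨n, hn⟩).v, 0⟩ : H) : G) = n
      rw [this, φ.symm_apply_apply]
    · show (φ (φ.symm ⟨w, 0⟩)).v = w
      rw [φ.apply_symm_apply]
  have hTJ : ∀ n : N, n ∈ T → n ≠ 1 → ∃ hn : (n : G) ∈ H, InJ (φ ⟨n, hn⟩) := by
    rintro n ⟨hn, hs⟩ hn1
    refine ⟨hn, hs, fun h => hn1 (Subtype.ext ?_)⟩
    have h' : (⟨(n : G), hn⟩ : H) = 1 := φ.injective (h.trans (map_one φ).symm)
    exact congrArg (fun x : H => (x : G)) h' 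
  obtain ⟨w, hw⟩ : ∃ w : Fin 27, w ≠ 0 := ⟨1, by decide⟩
  set j : H := φ.symm ⟨w, 0⟩ with hjdef
  have hj : InJ (φ j) := by
    rw [hjdef, φ.apply_symm_apply]
    exact ⟨rfl, fun h => hw (congrArg M.v h)⟩
  have hnorm : Subgroup.normalizer (T : Set N) = K := by
    refine le_antisymm (fun n hn => ?_) fun n hn => ?_
    · refine Subgroup.mem_subgroupOf.2 ?_
      have hjT : (⟨(j : G), hJN w⟩ : N) ∈ T := ⟨j.2, hj.1⟩
      have hmem := (Subgroup.mem_normalizer_iff.1 hn _).1 hjT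
      obtain ⟨hm, hm'⟩ := hTJ _ hmem fun h => hj.2 (by
        have h' : (j : G) = 1 := by
          have := congrArg Subtype.val h
          simpa [conj_eq_one_iff] using this
        rw [show j = 1 from Subtype.ext h', map_one])
      exact e.mem_of_conj hj hm' rfl
    · have hnH : ((n : N) : G) ∈ H := Subgroup.mem_subgroupOf.1 hn
      refine Subgroup.mem_normalizer_iff.2 fun t => ⟨?_, ?_⟩
      · rintro ⟨ht, hts⟩
        refine ⟨H.mul_mem (H.mul_mem hnH ht) (H.inv_mem hnH), ?_⟩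
        rw [show (⟨((n * t * n⁻¹ : N) : G), _⟩ : H) = ⟨_, hnH⟩ * ⟨t, ht⟩ * ⟨_, hnH⟩⁻¹ from rfl,
          map_mul, map_mul, map_inv]
        generalize φ ⟨t, ht⟩ = x at hts ⊢
        obtain ⟨v, s⟩ := x
        obtain rfl : s = 0 := hts
        exact J_normal _ _ v
      · rintro ⟨ht, hts⟩
        have ht' : (t : G) ∈ H := by
          have := H.mul_mem (H.mul_mem (H.inv_mem hnH) ht) hnH
          simpa [mul_assoc] using this
        refine ⟨ht', ?_⟩
        have e1 : φ ⟨t, ht'⟩ = (φ ⟨_, hnH⟩)⁻¹ * φ ⟨_, ht⟩ * (φ ⟨_, hnH⟩)⁻¹⁻¹ := by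
          rw [inv_inv, ← map_inv, ← map_mul, ← map_mul]
          congr 1
          refine Subtype.ext ?_
          simp [mul_assoc]
        rw [e1]
        generalize φ ⟨_, ht⟩ = x at hts ⊢
        obtain ⟨v, s⟩ := x
        obtain rfl : s = 0 := hts
        exact J_normal _ _ v
  have hcent : ∀ t ∈ T, t ≠ 1 → Subgroup.centralizer ({t} : Set N) ≤ K := by
    intro t ht ht1 n hn
    obtain ⟨htH, hti⟩ := hTJ t ht ht1
    refine Subgroup.mem_subgroupOf.2 (e.cent _ hti (Subgroup.mem_centralizer_singleton_iff.2 ?_))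
    exact congrArg Subtype.val (Subgroup.mem_centralizer_singleton_iff.1 hn)
  have hK := ThreeFour.eq_top_of_mulEquiv (G := N) K eK T hTK hTcard hnorm hcent
  -- so the normal subgroup lies in `H`
  rw [eq_top_iff]
  intro g _
  have h1 : g * (j : G) * g⁻¹ ∈ H := by
    have hn : g * (j : G) * g⁻¹ ∈ N := hN.conj_mem _ (hJN w) g
    exact Subgroup.mem_subgroupOf.1 (hK ▸ Subgroup.mem_top (⟨_, hn⟩ : N) : (⟨_, hn⟩ : N) ∈ K)
  exact e.mem_of_conj hj (e.closed j hj g h1) rfl

/-- **The subgroup `3³:S₄` is the whole group.** -/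
theorem eq_top_of_mulEquiv (H : Subgroup G)
    (e : H ≃* (⊤ : Subgroup M).map perm)
    (J : Subgroup G) (hJ : J = (Cfsg.pCore 3 H).map H.subtype)
    (hC : ∀ j ∈ J, j ≠ 1 → Subgroup.centralizer ({j} : Set G) ≤ H)
    (hsc : Cfsg.IsStronglyClosed J H) : H = ⊤ := by
  classical
  let φ : H ≃* M := e.trans
    ((((⊤ : Subgroup M).equivMapOfInjective perm perm_injective).symm).trans Subgroup.topEquiv)
  have : Fact (Nat.Prime 3) := ⟨Nat.prime_three⟩
  let C : Subgroup H :=
    { carrier := {x | (φ x).s = 0}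
      one_mem' := by show (φ 1).s = 0; rw [map_one]; rfl
      mul_mem' := fun {a b} (ha : (φ a).s = 0) (hb : (φ b).s = 0) => by
        show (φ (a * b)).s = 0
        rw [map_mul]
        generalize φ a = x at ha ⊢
        generalize φ b = y at hb ⊢
        obtain ⟨v, s⟩ := x
        obtain ⟨v', s'⟩ := y
        obtain rfl : s = 0 := ha
        obtain rfl : s' = 0 := hb
        exact J_mul v v'
      inv_mem' := fun {a} (ha : (φ a).s = 0) => by
        show (φ a⁻¹).s = 0
        rw [map_inv]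
        by_cases h1 : φ a = 1
        · rw [h1, inv_one]; rfl
        · exact (InJ.inv ⟨ha, h1⟩).1 }
  have hCn : C.Normal := ⟨fun x (hx : (φ x).s = 0) y => by
    show (φ (y * x * y⁻¹)).s = 0
    rw [map_mul, map_mul, map_inv]
    generalize φ x = m at hx ⊢
    obtain ⟨v, s⟩ := m
    obtain rfl : s = 0 := hx
    exact J_normal _ _ v⟩
  have hCp : IsPGroup 3 C := fun x => ⟨1, by
    refine Subtype.ext (φ.injective ?_)
    have hx : (φ (x : H)).s = 0 := x.2
    rw [pow_one, Subgroup.coe_pow, map_pow, OneMemClass.coe_one, map_one]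
    generalize φ (x : H) = m at hx ⊢
    obtain ⟨v, s⟩ := m
    obtain rfl : s = 0 := hx
    rw [pow_three, ← mul_assoc]
    exact J_cube v⟩
  have hcore : ∀ x : H, x ∈ Cfsg.pCore 3 H ↔ (φ x).s = 0 := by
    intro x
    refine ⟨fun hx => ?_, fun hx => Coprime.le_pCore (N := C) hCp hx⟩
    by_contra hs
    obtain ⟨t, -, ht⟩ := forall_m (P := fun m => m.s ≠ 0 → ∃ t ∈ ([1, 2, 4, 8] : List (Fin 24)),
      (m⁻¹ * ((⟨0, t⟩ : M) * m * (⟨0, t⟩ : M)⁻¹)) ^ 81 ≠ 1) core_wit (φ x) hs
    have hn : (Cfsg.pCore 3 H).Normal := inferInstance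
    set u := φ.symm (⟨0, t⟩ : M)
    have hmem : x⁻¹ * (u * x * u⁻¹) ∈ Cfsg.pCore 3 H :=
      mul_mem (inv_mem hx) (hn.conj_mem x hx u)
    obtain ⟨n, hn'⟩ := Coprime.pCore_isPGroup (G := H) 3 ⟨_, hmem⟩
    have h1 : (x⁻¹ * (u * x * u⁻¹)) ^ 3 ^ n = 1 := by simpa using congrArg Subtype.val hn'
    refine ht ?_
    have h3 : φ (x⁻¹ * (u * x * u⁻¹)) = (φ x)⁻¹ * ((⟨0, t⟩ : M) * φ x * (⟨0, t⟩ : M)⁻¹) := by
      simp [u]
    rw [← h3]
    set m := φ (x⁻¹ * (u * x * u⁻¹)) with hm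
    have h1' : m ^ 3 ^ n = 1 := by rw [hm, ← map_pow, h1, map_one]
    have h2 : m ^ 648 = 1 := by rw [← card_M]; exact pow_card_eq_one
    obtain ⟨i, -, hi⟩ := (Nat.dvd_prime_pow Nat.prime_three).1 (orderOf_dvd_of_pow_eq_one h1')
    have h4 := orderOf_dvd_of_pow_eq_one h2
    rw [hi] at h4
    refine orderOf_dvd_iff_pow_eq_one.1 ?_
    rw [hi, show 81 = 3 ^ 4 from rfl]
    refine Nat.pow_dvd_pow 3 ?_
    by_contra hlt
    exact absurd ((pow_dvd_pow 3 (show 5 ≤ i by omega)).trans h4) (by norm_num)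
  have hmemJ : ∀ x : H, (x : G) ∈ J ↔ (φ x).s = 0 := by
    intro x
    rw [hJ, ← hcore]
    exact Subgroup.mem_map_iff_mem H.subtype_injective
  refine Emb.eq_top (φ := φ) ⟨fun h hh => hC h ((hmemJ h).2 hh.1) fun h1 => hh.2 (by
    rw [show h = 1 from Subtype.ext h1, map_one]), fun h hh g hg => ⟨?_, ?_⟩⟩
  · exact (hmemJ ⟨_, hg⟩).1 (hsc.2 h ((hmemJ h).2 hh.1) g hg)
  · intro h1
    refine hh.2 ?_
    have h2 : g * (h : G) * g⁻¹ = 1 := congrArg Subtype.val (φ.injective (h1.trans (map_one φ).symm))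
    rw [show h = 1 from Subtype.ext (conj_eq_one_iff.1 h2), map_one]

end CfsgLib.Char.ThreeSFour
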