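import Cfsg.Agent.Lib.Char.ThreeSFour.Data
import Mathlib.Algebra.Group.MinimalAxioms
import Mathlib.Algebra.Group.Subgroup.Map
import Mathlib.Data.Fintype.Perm
import Mathlib.GroupTheory.Perm.Basic
import Mathlib.Data.Fintype.Prod
import Mathlib.Tactic.FinCases

/-!
# The group `3³:S₄` of order 648 as a permutation group on nine points
-/

set_option autoImplicit false

namespace CfsgLib.Char.ThreeSFour

/-- An element: a translation and a signed permutation. -/
structure M where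
  /-- The translation. -/
  v : Fin 27
  /-- The signed permutation. -/
  s : Fin 24
  deriving DecidableEq

/-- The pairs. -/
def mEquiv : Fin 27 × Fin 24 ≃ M where
  toFun p := ⟨p.1, p.2⟩
  invFun x := (x.v, x.s)
  left_inv _ := rfl
  right_inv _ := rfl

instance instFintypeM : Fintype M := Fintype.ofEquiv _ mEquiv

theorem forall_m {P : M → Prop} (h : ∀ v s, P ⟨v, s⟩) (x : M) : P x := h x.v x.s

/-- Addition of translations. -/
def vAdd (a b : ℕ) : ℕ :=
  (a / 9 + b / 9) % 3 * 9 + (a / 3 % 3 + b / 3 % 3) % 3 * 3 + (a % 3 + b % 3) % 3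

/-- The action on translations. -/
def sAct (s : Fin 24) (w : Fin 27) : Fin 27 :=
  ⟨((Data.act.getD s.val []).getD w.val 0) % 27, Nat.mod_lt _ (by decide)⟩

/-- The product of signed permutations. -/
def sMul (s t : Fin 24) : Fin 24 :=
  ⟨((Data.mulS.getD s.val []).getD t.val 0) % 24, Nat.mod_lt _ (by decide)⟩

/-- The inverse of a signed permutation. -/
def sInv (s : Fin 24) : Fin 24 := ⟨(Data.invS.getD s.val 0) % 24, Nat.mod_lt _ (by decide)⟩

/-- Addition of translations. -/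
def tAdd (a b : Fin 27) : Fin 27 := ⟨vAdd a.val b.val % 27, Nat.mod_lt _ (by decide)⟩

/-- An element from its code. -/
def ofCode (n : ℕ) : M :=
  ⟨⟨n / 24 % 27, Nat.mod_lt _ (by decide)⟩, ⟨n % 24, Nat.mod_lt _ (by decide)⟩⟩

instance instMulM : Mul M := ⟨fun x y => ⟨tAdd x.v (sAct x.s y.v), sMul x.s y.s⟩⟩
instance instOneM : One M := ⟨⟨0, 0⟩⟩
instance instInvM : Inv M :=
  ⟨fun x => ⟨sAct (sInv x.s) (tAdd x.v x.v), sInv x.s⟩⟩

/-- The translation on points. -/
def tPt (w : Fin 27) (p : Fin 9) : Fin 9 :=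
  ⟨(p.val / 3 * 3 + (p.val % 3 + w.val / (if p.val / 3 = 0 then 9 else if p.val / 3 = 1 then 3
      else 1) % 3) % 3) % 9, Nat.mod_lt _ (by decide)⟩

/-- The signed permutation on points. -/
def sPt (s : Fin 24) (p : Fin 9) : Fin 9 :=
  ⟨((Data.sigma.getD s.val []).getD p.val 0) % 9, Nat.mod_lt _ (by decide)⟩

/-- An element on points. -/
def mPt (x : M) (p : Fin 9) : Fin 9 := tPt x.v (sPt x.s p)

theorem tPt_add : ∀ a b : Fin 27, ∀ p, tPt (tAdd a b) p = tPt a (tPt b p) := by decide +kernel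

theorem sPt_mul : ∀ s t : Fin 24, ∀ p, sPt (sMul s t) p = sPt s (sPt t p) := by decide +kernel

theorem sPt_tPt : ∀ s : Fin 24, ∀ w p, sPt s (tPt w p) = tPt (sAct s w) (sPt s p) := by
  decide +kernel

theorem mPt_mul (x y : M) (p : Fin 9) : mPt (x * y) p = mPt x (mPt y p) := by
  show tPt (tAdd x.v (sAct x.s y.v)) (sPt (sMul x.s y.s) p) =
    tPt x.v (sPt x.s (tPt y.v (sPt y.s p)))
  rw [tPt_add, sPt_mul, sPt_tPt]

theorem mPt_one : ∀ p, mPt 1 p = p := by decide +kernel

/-- The key of a point map. -/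
def key (f : Fin 9 → Fin 9) : ℕ :=
  ((f 0).val / 3 * 3 + (f 3).val / 3) * 8 +
    ((if ((f 1).val + 3 - (f 0).val % 3) % 3 = 2 then 1 else 0) +
    (if ((f 4).val + 3 - (f 3).val % 3) % 3 = 2 then 2 else 0) +
    (if ((f 7).val + 3 - (f 6).val % 3) % 3 = 2 then 4 else 0))

/-- The element with a given point map. -/
def decode (f : Fin 9 → Fin 9) : M :=
  let s : Fin 24 := ⟨Data.look.getD (key f) 0 % 24, Nat.mod_lt _ (by decide)⟩
  let j := sPt (sInv s)
  ⟨⟨((f (j 0)).val % 3 * 9 + (f (j 3)).val % 3 * 3 + (f (j 6)).val % 3) % 27,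
    Nat.mod_lt _ (by decide)⟩, s⟩

theorem decode_mPt : ∀ v s, decode (mPt ⟨v, s⟩) = ⟨v, s⟩ := by decide +kernel

theorem mPt_injective {x y : M} (h : ∀ p, mPt x p = mPt y p) : x = y := by
  rw [← forall_m (P := fun x => decode (mPt x) = x) decode_mPt x,
    ← forall_m (P := fun x => decode (mPt x) = x) decode_mPt y, funext h]

theorem inv_mul_self : ∀ v s, (⟨v, s⟩ : M)⁻¹ * ⟨v, s⟩ = 1 := by decide +kernel

instance instGroupM : Group M :=
  Group.ofLeftAxioms (fun a b c => mPt_injective fun p => by simp only [mPt_mul])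
    (fun a => mPt_injective fun p => by rw [mPt_mul, mPt_one])
    (forall_m inv_mul_self)

/-- The action on nine points. -/
def perm : M →* Equiv.Perm (Fin 9) where
  toFun x :=
    { toFun := mPt x
      invFun := mPt x⁻¹
      left_inv := fun p => by rw [← mPt_mul, inv_mul_cancel, mPt_one]
      right_inv := fun p => by rw [← mPt_mul, mul_inv_cancel, mPt_one] }
  map_one' := Equiv.ext mPt_one
  map_mul' x y := Equiv.ext (mPt_mul x y)

theorem perm_apply (x : M) (p : Fin 9) : perm x p = mPt x p := rfl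

theorem perm_injective : Function.Injective perm := fun _ _ h =>
  mPt_injective fun p => Equiv.congr_fun h p

theorem perm_gens :
    perm (ofCode 216) = Equiv.swap (0 : Fin 9) 1 * Equiv.swap 1 2 ∧
    perm (ofCode 16) = Equiv.swap (0 : Fin 9) 3 * Equiv.swap 3 6 *
      (Equiv.swap (1 : Fin 9) 4 * Equiv.swap 4 7) * (Equiv.swap (2 : Fin 9) 5 * Equiv.swap 5 8) ∧
    perm (ofCode 291) = Equiv.swap (0 : Fin 9) 1 * Equiv.swap 3 4 ∧
    perm (ofCode 32) = Equiv.swap (0 : Fin 9) 3 * Equiv.swap 1 4 * Equiv.swap 2 5 *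
      Equiv.swap 6 7 := by
  refine ⟨?_, ?_, ?_, ?_⟩ <;> refine Equiv.ext fun p => ?_ <;> rw [perm_apply] <;>
    revert p <;> decide +kernel

/-- The tree data. -/
def tree (x : M) : ℕ × M × M :=
  (((Data.parRank.getD x.v.val []).getD x.s.val 0),
    ofCode (Data.gens.getD ((Data.parGen.getD x.v.val []).getD x.s.val 0) 0),
    ofCode ((Data.parCode.getD x.v.val []).getD x.s.val 0))

theorem tree_spec : ∀ v s, (⟨v, s⟩ : M) = 1 ∨
    ((tree ⟨v, s⟩).2.1 * (tree ⟨v, s⟩).2.2 = ⟨v, s⟩ ∧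
      (tree (tree ⟨v, s⟩).2.2).1 < (tree ⟨v, s⟩).1 ∧
      ((tree ⟨v, s⟩).2.1 = ofCode 216 ∨ (tree ⟨v, s⟩).2.1 = ofCode 16 ∨
        (tree ⟨v, s⟩).2.1 = ofCode 291 ∨ (tree ⟨v, s⟩).2.1 = ofCode 32)) := by decide +kernel

theorem closure_gens : Subgroup.closure ({ofCode 216, ofCode 16, ofCode 291, ofCode 32} : Set M) = ⊤ := by
  rw [eq_top_iff]
  suffices h : ∀ n x, (tree x).1 = n → x ∈ Subgroup.closure
      ({ofCode 216, ofCode 16, ofCode 291, ofCode 32} : Set M) from fun x _ => h _ x rfl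
  intro n
  induction n using Nat.strong_induction_on with
  | _ n ih =>
    intro x hn
    subst hn
    rcases forall_m (P := fun x => x = 1 ∨ ((tree x).2.1 * (tree x).2.2 = x ∧
      (tree (tree x).2.2).1 < (tree x).1 ∧ ((tree x).2.1 = ofCode 216 ∨ (tree x).2.1 = ofCode 16 ∨
        (tree x).2.1 = ofCode 291 ∨ (tree x).2.1 = ofCode 32))) tree_spec x with h | ⟨h1, h2, h3⟩
    · rw [h]; exact Subgroup.one_mem _
    · rw [← h1]
      refine Subgroup.mul_mem _ (Subgroup.subset_closure ?_) (ih _ h2 _ rfl)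
      simpa using h3

theorem map_top :
    (⊤ : Subgroup M).map perm = Subgroup.closure ({Equiv.swap (0 : Fin 9) 1 * Equiv.swap 1 2,
      Equiv.swap (0 : Fin 9) 3 * Equiv.swap 3 6 * (Equiv.swap (1 : Fin 9) 4 * Equiv.swap 4 7) *
        (Equiv.swap (2 : Fin 9) 5 * Equiv.swap 5 8),
      Equiv.swap (0 : Fin 9) 1 * Equiv.swap 3 4,
      Equiv.swap (0 : Fin 9) 3 * Equiv.swap 1 4 * Equiv.swap 2 5 * Equiv.swap 6 7} :
        Set (Equiv.Perm (Fin 9))) := by
  obtain ⟨e1, e2, e3, e4⟩ := perm_gens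
  rw [← closure_gens, MonoidHom.map_closure]
  congr 1
  simp only [Set.image_insert_eq, Set.image_singleton, e1, e2, e3, e4]

end CfsgLib.Char.ThreeSFour
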